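import Cfsg.Agent.S4632
import Mathlib

/-!
The elements of GL₂(q), q odd, behind the Sylow 2-subgroup of G₂(q).
-/

set_option autoImplicit false

namespace Cfsg.Agent.G2Fusion

open Matrix Cfsg.Agent.GroupSub Cfsg.Agent.GroupSub.GL2Two

variable {F : Type*} [Field F]

local notation "GL2" => GL (Fin 2) F
local notation:1024 "↥ₘ" A:1024 => ((A : GL (Fin 2) F) : Matrix (Fin 2) (Fin 2) F)

/-- Scalar matrices. -/
noncomputable def sc : Fˣ →* GL2 := Units.map (Matrix.scalar (Fin 2) : F →+* Matrix (Fin 2) (Fin 2) F).toMonoidHom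

theorem coe_sc (d : Fˣ) : ↥ₘ(sc d) = Matrix.scalar (Fin 2) (d : F) := rfl

theorem sc_mem_center (d : Fˣ) : sc d ∈ Subgroup.center GL2 := mem_center_iff_scalar.2 ⟨_, coe_sc d⟩

theorem sc_mem_cJ (d : Fˣ) : sc d ∈ cJ F :=
  Subgroup.mem_centralizer_singleton_iff.2 (Subgroup.mem_center_iff.1 (sc_mem_center d) _).symm

theorem det_sc (d : Fˣ) : (↥ₘ(sc d)).det = (d : F) ^ 2 := by
  simp [coe_sc, Matrix.scalar_apply, pow_two]

theorem neg_one_eq_sc : (-1 : GL2) = sc (-1) :=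
  Units.ext (by rw [coe_sc, Units.val_neg, Units.val_neg, Units.val_one, Units.val_one, map_neg, map_one])

theorem neg_one_mem_cJ : (-1 : GL2) ∈ cJ F := neg_one_eq_sc (F := F) ▸ sc_mem_cJ _

theorem J_mul_J : GL2Two.J F * GL2Two.J F = (-1 : GL2) := by
  refine Units.ext ?_
  ext a b; fin_cases a <;> fin_cases b <;>
    simp [Matrix.mul_apply, Fin.sum_univ_two]

variable (F) in
/-- The norm one part. -/
noncomputable def Kone : Subgroup GL2 := QK F ⊓ (Matrix.GeneralLinearGroup.det (n := Fin 2) (R := F)).ker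

theorem mem_Kone {g : GL2} : g ∈ Kone F ↔ g ∈ QK F ∧ (↥ₘ g).det = 1 := by
  rw [Kone, Subgroup.mem_inf, MonoidHom.mem_ker, Units.ext_iff]
  rfl

theorem isCyclic_Kone [Finite F] (h2F : (2 : F) ≠ 0) : IsCyclic (Kone F) := by
  obtain ⟨i, hi⟩ := IsAlgClosed.exists_pow_nat_eq (-1 : AlgebraicClosure F) (n := 2) two_pos
  let φ := algebraMap F (AlgebraicClosure F)
  let f : Kone F →* AlgebraicClosure F :=
    { toFun := fun g => φ ((↥ₘ(g : GL2)) 0 0) + φ ((↥ₘ(g : GL2)) 1 0) * i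
      map_one' := by simp
      map_mul' := fun g h => by
        obtain ⟨g1, g2⟩ := mem_cJ.1 (mem_Kone.1 g.2).1.1
        obtain ⟨h1, h2⟩ := mem_cJ.1 (mem_Kone.1 h.2).1.1
        simp only [Subgroup.coe_mul, Units.val_mul, Matrix.mul_apply, Fin.sum_univ_two]
        rw [g1, g2]
        simp only [map_add, map_mul, map_neg]
        linear_combination (-(φ ((↥ₘ(g : GL2)) 1 0)) * φ ((↥ₘ(h : GL2)) 1 0)) * hi }
  refine isCyclic_of_injective_ringHom f ((injective_iff_map_eq_one f).2 fun g hg => ?_)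
  obtain ⟨g1, g2⟩ := mem_cJ.1 (mem_Kone.1 g.2).1.1
  have hd := congrArg φ (mem_Kone.1 g.2).2
  rw [det_fin_two, g1, g2] at hd
  simp only [map_sub, map_mul, map_neg, map_one] at hd
  change φ ((↥ₘ(g : GL2)) 0 0) + φ ((↥ₘ(g : GL2)) 1 0) * i = 1 at hg
  set A := φ ((↥ₘ(g : GL2)) 0 0)
  set B := φ ((↥ₘ(g : GL2)) 1 0)
  have e : A - B * i = 1 := by
    linear_combination hd - (B * B) * hi - (A - B * i) * hg
  have h2 : (2 : AlgebraicClosure F) * (B * i) = 0 := by linear_combination hg - e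
  have h2' : (2 : AlgebraicClosure F) ≠ 0 := by
    rw [← map_ofNat φ 2]
    exact (map_ne_zero φ).2 h2F
  have hi0 : i ≠ 0 := fun h => by simp [h] at hi
  have hB : B = 0 := (mul_eq_zero.1 ((mul_eq_zero.1 h2).resolve_left h2')).resolve_right hi0
  have hA : A = 1 := by linear_combination hg - i * hB
  have hA' : (↥ₘ(g : GL2)) 0 0 = 1 := φ.injective (hA.trans φ.map_one.symm)
  have hB' : (↥ₘ(g : GL2)) 1 0 = 0 := φ.injective (hB.trans φ.map_zero.symm)
  refine Subtype.ext (Units.ext ?_)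
  ext a b
  fin_cases a <;> fin_cases b <;> simp [g1, g2, hA', hB']

theorem isSquare_of_pow_odd {x : F} {r : ℕ} (hr : Odd r) (hx : x ^ r = 1) : IsSquare x := by
  obtain ⟨m, rfl⟩ := hr
  exact ⟨x ^ (m + 1), by rw [← pow_add, show m + 1 + (m + 1) = 2 * m + 1 + 1 by omega, pow_succ, hx, one_mul]⟩

theorem exists_det_nonsquare [Fintype F] (hF : Odd (Fintype.card F)) :
    ∃ c ∈ QK F, ¬ IsSquare (↥ₘ c).det := by
  classical
  have : Fact (Nat.Prime 2) := ⟨Nat.prime_two⟩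
  have hchar : ringChar F ≠ 2 := fun h => by
    have := FiniteField.even_card_iff_char_two.1 h
    rw [Nat.odd_iff] at hF
    omega
  obtain ⟨ν, hν⟩ := FiniteField.exists_nonsquare hchar
  obtain ⟨a, b, hab⟩ := @FiniteField.exists_root_sum_quadratic F _ _ _
    (Polynomial.X ^ 2 : Polynomial F) (Polynomial.X ^ 2 - Polynomial.C ν)
    (Polynomial.degree_X_pow 2) (Polynomial.degree_X_pow_sub_C (by decide) _) (Nat.odd_iff.1 hF)
  simp at hab
  let m₀ : GL2 := Matrix.GeneralLinearGroup.mkOfDetNeZero !![a, -b; b, a]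
    (by rw [det_fin_two_of]; intro e; exact hν ⟨0, by linear_combination e - hab⟩)
  have hm : ↥ₘ m₀ = !![a, -b; b, a] := rfl
  have hd : (↥ₘ m₀).det = ν := by rw [hm, det_fin_two_of]; linear_combination hab
  obtain ⟨z, w, hzw, hz, hw, -, ⟨k, hk⟩, r, hr, hwr⟩ := exists_parts 2 m₀
  refine ⟨z, ⟨Subgroup.zpowers_le.2 (mem_cJ.2 (by simp [hm])) hz, k, hk⟩, fun hsq => hν ?_⟩
  have hwsq : IsSquare (↥ₘ w).det := by
    refine isSquare_of_pow_odd (r := r) (Nat.coprime_two_left.1 hr) ?_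
    rw [← Matrix.det_pow, ← Units.val_pow_eq_pow_val, hwr, Units.val_one, Matrix.det_one]
  rw [← hd, hzw, Units.val_mul, Matrix.det_mul]
  exact hsq.mul hwsq

theorem eq_neg_one_of_sq (h2 : (2 : F) ≠ 0) {g : GL2} (hg : g ∈ cJ F) (hd : (↥ₘ g).det = 1)
    (hsq : g * g = 1) (hne : g ≠ 1) : g = -1 := by
  obtain ⟨g1, g2⟩ := mem_cJ.1 hg
  rw [det_fin_two, g1, g2] at hd
  have h00 := congrArg (fun A : GL2 => (↥ₘ A) 0 0) hsq
  simp [Matrix.mul_apply, Fin.sum_univ_two, g2] at h00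
  have hB : (↥ₘ g) 1 0 = 0 := by
    have e : (2 : F) * ((↥ₘ g) 1 0 * (↥ₘ g) 1 0) = 0 := by linear_combination hd - h00
    exact mul_self_eq_zero.1 ((mul_eq_zero.1 e).resolve_left h2)
  have hA : (↥ₘ g) 0 0 * (↥ₘ g) 0 0 = 1 := by rw [hB] at hd; linear_combination hd
  rcases mul_self_eq_one_iff.1 hA with e | e
  · refine absurd (Units.ext ?_) hne
    ext a b
    fin_cases a <;> fin_cases b <;> simp [g1, g2, hB, e]
  · refine Units.ext ?_
    ext a b
    fin_cases a <;> fin_cases b <;> simp [g1, g2, hB, e]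

theorem card_GL2 [Fintype F] :
    Nat.card GL2 = Fintype.card F * (Fintype.card F - 1) * (Fintype.card F ^ 2 - 1) := by
  classical
  rw [Matrix.card_GL_field, Fin.prod_univ_two]
  set q := Fintype.card F
  simp only [Fin.val_zero, Fin.val_one, pow_zero, pow_one]
  rw [show q ^ 2 - q = q * (q - 1) by rw [pow_two, Nat.mul_sub, mul_one]]
  ring

variable (F) in
/-- The data. -/
structure Data [Fintype F] where
  n : ℕ
  c : GL (Fin 2) F
  k : GL (Fin 2) F
  u : GL (Fin 2) F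
  d : Fˣ
  c_mem : c ∈ cJ F
  det_c : (↥ₘ c).det = (d : F)
  k_eq : k = c * c * (sc d)⁻¹
  u_sq : u * u = -1
  det_u : (↥ₘ u).det = 1
  u_notMem : u ∉ cJ F
  u_conj : ∀ x ∈ cJ F, u * x * u⁻¹ = eM F * x * eM F
  k_ord : orderOf k = 2 ^ (n + 2)
  k_half : k ^ (2 ^ (n + 1)) = -1
  q_sq : ∃ r, Odd r ∧ Fintype.card F ^ 2 - 1 = 2 * 2 ^ (n + 2) * r

theorem exists_data [Fintype F] (hF : Odd (Fintype.card F)) : Nonempty (Data F) := by
  classical
  have : Fact (Nat.Prime 2) := ⟨Nat.prime_two⟩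
  have hchar : ringChar F ≠ 2 := fun h => by
    have := FiniteField.even_card_iff_char_two.1 h
    rw [Nat.odd_iff] at hF
    omega
  have h2 : (2 : F) ≠ 0 := Ring.two_ne_zero hchar
  obtain ⟨m, hm, hmd⟩ := S4632.exists_det_neg_one hF
  obtain ⟨c, hc, hcd⟩ := exists_det_nonsquare hF
  set D : GL2 →* Fˣ := Matrix.GeneralLinearGroup.det
  set d := D c with hd
  have hdv : (↥ₘ c).det = (d : F) := rfl
  set u := eM F * m with hu
  have hud : (↥ₘ u).det = 1 := by rw [hu, Units.val_mul, Matrix.det_mul, S4632.eM_det, hmd]; ring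
  have huu : u * u = -1 := by
    refine Units.ext ?_
    rw [hu, ← mul_assoc, conj_eM_mul hm.1, hmd, Units.val_neg, Units.val_one, map_neg, map_one]
  have hun : u ∉ cJ F := fun h => eM_notMem h2 (by
    have := mul_mem h (inv_mem hm.1)
    rwa [hu, mul_inv_cancel_right] at this)
  have huc : ∀ x ∈ cJ F, u * x * u⁻¹ = eM F * x * eM F := fun x hx => by
    rw [hu, _root_.mul_inv_rev, eM_inv, show eM F * m * x * (m⁻¹ * eM F) = eM F * (m * x * m⁻¹) * eM F by group,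
      cJ_comm hm.1 hx, mul_inv_cancel_right]
  -- the generator
  set k := c * c * (sc d)⁻¹ with hk
  have hcs : sc d ∈ QK F := by
    obtain ⟨j, hj⟩ := hc.2
    exact ⟨sc_mem_cJ d, j, by rw [← map_pow, hd, ← map_pow, hj, map_one, map_one]⟩
  have hkK : k ∈ Kone F := by
    refine mem_Kone.2 ⟨mul_mem (mul_mem hc hc) (inv_mem hcs), ?_⟩
    have e : D k = 1 := by
      have es : D (sc d) = d * d := Units.ext (by
        show (↥ₘ(sc d)).det = _
        rw [det_sc, Units.val_mul, pow_two])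
      rw [hk, map_mul, map_mul, map_inv, es, ← hd, mul_inv_cancel]
    exact congrArg Units.val e
  have hK2 : IsPGroup 2 (Kone F) := fun g => by
    obtain ⟨j, hj⟩ := g.2.1.2
    exact ⟨j, Subtype.ext hj⟩
  obtain ⟨a, ha⟩ := IsPGroup.iff_card.1 hK2
  have hJK : GL2Two.J F ∈ Kone F := mem_Kone.2 ⟨J_mem_QK, S4632.J_det⟩
  have hm1 : (-1 : GL2) ≠ 1 := fun e => h2 (by
    have := congrArg (fun A : GL2 => (↥ₘ A) 0 0) e
    simp at this
    linear_combination -this)
  have hJ4 : orderOf (GL2Two.J F) = 4 := by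
    refine orderOf_eq_prime_pow (p := 2) (n := 1) ?_ ?_
    · rw [pow_one, pow_two, J_mul_J]; exact hm1
    · rw [show 2 ^ (1 + 1) = 2 * 2 from rfl, pow_mul, pow_two (GL2Two.J F), J_mul_J, pow_two, neg_mul_neg, one_mul]
  obtain ⟨n, rfl⟩ : ∃ n, a = n + 2 := by
    have h4 : 2 ^ 2 ∣ 2 ^ a := by
      rw [← ha, show (2 : ℕ) ^ 2 = 4 from rfl, ← hJ4, ← Subgroup.orderOf_mk _ hJK]
      exact orderOf_dvd_natCard _
    exact ⟨a - 2, (Nat.sub_add_cancel ((Nat.pow_dvd_pow_iff_le_right (by norm_num)).1 h4)).symm⟩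
  have := isCyclic_Kone (F := F) h2
  obtain ⟨g, hg⟩ := IsCyclic.exists_ofOrder_eq_natCard (α := Kone F)
  obtain ⟨e, he⟩ : ∃ e : ℕ, g ^ e = ⟨k, hkK⟩ := by
    have : Subgroup.zpowers g = ⊤ := Subgroup.eq_top_of_card_eq _ (by rw [Nat.card_zpowers, hg])
    have hmem : (⟨k, hkK⟩ : Kone F) ∈ Subgroup.zpowers g := this ▸ Subgroup.mem_top _
    obtain ⟨e, -, he⟩ := mem_powers_iff_mem_range_orderOf (x := g) |>.1 (mem_powers_iff_mem_zpowers.2 hmem) |> Finset.mem_image.1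
    exact ⟨e, he⟩
  have heodd : Odd e := by
    by_contra h
    obtain ⟨f, rfl⟩ := Nat.not_odd_iff_even.1 h
    set y : GL2 := ((g ^ f : Kone F) : GL2) with hy
    have hyK := mem_Kone.1 (g ^ f).2
    have hyy : y * y = k := by
      rw [hy, ← Subgroup.coe_mul, ← pow_add, he]
    set l := c * y⁻¹ with hl
    have hlmem : l ∈ cJ F := mul_mem hc.1 (inv_mem hyK.1.1)
    have hll : l * l = sc d := by
      rw [hl, show c * y⁻¹ * (c * y⁻¹) = c * (y⁻¹ * c) * y⁻¹ by group,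
        cJ_comm (inv_mem hyK.1.1) hc.1,
        show c * (c * y⁻¹) * y⁻¹ = c * c * (y * y)⁻¹ by group, hyy, hk, _root_.mul_inv_rev, inv_inv, ← mul_assoc,
        Subgroup.mem_center_iff.1 (sc_mem_center d) (c * c), mul_inv_cancel_right]
    have hld : (↥ₘ l).det = (d : F) := by
      have e1 : (↥ₘ(y⁻¹)).det = 1 := (mem_Kone.1 (inv_mem (g ^ f).2)).2
      rw [hl, Units.val_mul, Matrix.det_mul, e1, mul_one, hdv]
    obtain ⟨l1, l2⟩ := mem_cJ.1 hlmem
    have h00 := congrArg (fun A : GL2 => (↥ₘ A) 0 0) hll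
    have h10 := congrArg (fun A : GL2 => (↥ₘ A) 1 0) hll
    simp [Matrix.mul_apply, Fin.sum_univ_two, l1, l2, coe_sc] at h00 h10
    rw [det_fin_two, l1, l2] at hld
    have hab : (2 : F) * ((↥ₘ l) 0 0 * (↥ₘ l) 1 0) = 0 := by linear_combination h10
    rcases mul_eq_zero.1 ((mul_eq_zero.1 hab).resolve_left h2) with e0 | e0
    · exact hcd ⟨(↥ₘ l) 1 0, by rw [hdv, ← hld, e0]; ring⟩
    · exact hcd ⟨(↥ₘ l) 0 0, by rw [hdv, ← hld, e0]; ring⟩
  have hkord : orderOf k = 2 ^ (n + 2) := by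
    rw [← Subgroup.orderOf_mk _ hkK, ← he, Nat.Coprime.orderOf_pow, hg, ha]
    rw [hg, ha]
    exact (Nat.coprime_two_left.2 heodd).pow_left _
  have hkhalf : k ^ (2 ^ (n + 1)) = -1 := by
    refine eq_neg_one_of_sq h2 (pow_mem hkK.1.1 _) (mem_Kone.1 (pow_mem hkK _)).2 ?_ ?_
    · rw [← pow_add, ← two_mul, ← pow_succ', ← hkord, pow_orderOf_eq_one]
    · exact pow_ne_one_of_lt_orderOf (by positivity)
        (by rw [hkord]; exact Nat.pow_lt_pow_right (by norm_num) (by omega))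
  refine ⟨⟨n, c, k, u, d, hc.1, hdv, rfl, huu, hud, hun, huc, hkord, hkhalf, ?_⟩⟩
  -- the 2-part of q² - 1
  set q := Fintype.card F with hq
  set R := (QK F).map D with hR
  have hKcard : Nat.card (Kone F) * Nat.card R = Nat.card (QK F) := by
    have h := Subgroup.index_mul_card (D.comp (QK F).subtype).ker
    rw [Subgroup.index_ker, MonoidHom.range_comp, Subgroup.range_subtype] at h
    rw [← h, mul_comm]
    congr 1
    refine Nat.card_congr ⟨fun x => ⟨⟨x, x.2.1⟩, x.2.2⟩, fun y => ⟨y, y.1.2, y.2⟩, fun _ => rfl, fun _ => rfl⟩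
  have hRo : ∃ o, Odd o ∧ q - 1 = Nat.card R * o := by
    obtain ⟨o, ho⟩ := Subgroup.card_subgroup_dvd_card R
    rw [Nat.card_units, Nat.card_eq_fintype_card] at ho
    refine ⟨o, Nat.not_even_iff_odd.1 fun heven => hcd ?_, ho⟩
    obtain ⟨o', rfl⟩ := heven
    rw [hdv, FiniteField.isSquare_iff hchar d.ne_zero]
    show (d : F) ^ (q / 2) = 1
    have hdiv : q / 2 = Nat.card R * o' := by
      obtain ⟨j, hj⟩ := hF
      rw [mul_add] at ho
      omega
    have hpow : (⟨d, ⟨c, hc, rfl⟩⟩ : R) ^ Nat.card R = 1 := pow_card_eq_one'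
    have hpow' : d ^ Nat.card R = 1 := congrArg Subtype.val hpow
    rw [hdiv, pow_mul, ← Units.val_pow_eq_pow_val, hpow', Units.val_one, one_pow]
  obtain ⟨S, hS⟩ := exists_sylow_eq_Qs (F := F) h2
  have hQ : Nat.card (Qs F) = 2 * Nat.card (QK F) := by
    have hle : QK F ≤ Qs F := fun x hx => Or.inl hx
    have hrel : (QK F).relIndex (Qs F) = 2 := by
      rw [Subgroup.relIndex, Subgroup.index_eq_two_iff]
      refine ⟨⟨eM F, eM_mem_Qs⟩, fun b => ?_⟩
      have hne : ∀ x : GL2, x ∈ QK F → x * eM F ∉ QK F := fun x hx h => eM_notMem h2 (by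
        have := mul_mem (inv_mem hx.1) h.1
        rwa [inv_mul_cancel_left] at this)
      simp only [Subgroup.mem_subgroupOf, Subgroup.coe_mul]
      by_cases hb : (b : GL2) ∈ QK F
      · exact Or.inr ⟨hb, hne _ hb⟩
      · refine Or.inl ⟨?_, hb⟩
        have h := conj_eM_QK ((mem_Qs.1 b.2).resolve_left hb)
        rwa [← mul_assoc, eM_sq, one_mul] at h
    have h := Subgroup.card_mul_index ((QK F).subgroupOf (Qs F))
    rw [Nat.card_congr (Subgroup.subgroupOfEquivOfLe hle).toEquiv, ← Subgroup.relIndex, hrel] at h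
    rw [← h, mul_comm]
  obtain ⟨o, ho, hqo⟩ := hRo
  have hidx : Odd (Qs F).index := by
    rw [← hS, ← Nat.not_even_iff_odd, even_iff_two_dvd]
    exact S.not_dvd_index
  have hG := (Qs F).card_mul_index
  rw [hQ, ← hKcard, ha, card_GL2, hqo, ← hq] at hG
  have hR0 : 0 < Nat.card R := Nat.card_pos
  have e : q * o * (q ^ 2 - 1) = 2 * 2 ^ (n + 2) * (Qs F).index := by
    refine Nat.eq_of_mul_eq_mul_left hR0 ?_
    linarith [hG]
  have hcop : Nat.Coprime (2 * 2 ^ (n + 2)) (q * o) := by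
    rw [show 2 * 2 ^ (n + 2) = 2 ^ (n + 3) by ring]
    exact (Nat.coprime_two_left.2 (hF.mul ho)).pow_left _
  obtain ⟨r, hr⟩ := hcop.dvd_of_dvd_mul_left (Dvd.intro _ e.symm)
  refine ⟨r, ?_, hr⟩
  have e' : q * o * r = (Qs F).index := by
    refine Nat.eq_of_mul_eq_mul_left (show 0 < 2 * 2 ^ (n + 2) by positivity) ?_
    rw [← e, hr]; ring
  rw [← e'] at hidx
  exact (Nat.odd_mul.1 hidx).2

end Cfsg.Agent.G2Fusion
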