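import Cfsg.Agent.G2Fusion.Elt
import Mathlib

/-!
The table of `Elt N` realised by four elements satisfying the defining relations.
-/

set_option autoImplicit false

namespace Cfsg.Agent.G2Fusion

variable {H : Type*} [Group H]

/-- The defining relations. -/
structure Rels (N : ℕ) (X E W₁ W₂ : H) : Prop where
  xN : X ^ N = 1
  eN : E ^ N = 1
  xe : X * E = E * X
  w1x : W₁ * X * W₁⁻¹ = X⁻¹
  w1e : W₁ * E * W₁⁻¹ = E * X⁻¹
  w2x : W₂ * X * W₂⁻¹ = X
  w2e : W₂ * E * W₂⁻¹ = X * E⁻¹
  w1w1 : W₁ * W₁ = X ^ (N / 2)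
  w2w2 : W₂ * W₂ = X ^ (N / 2)
  ww : W₁ * W₂ = W₂ * W₁

/-- The element attached to a quadruple. -/
def gen {N : ℕ} (X E W₁ W₂ : H) (u : Elt N) : H :=
  X ^ u.a.val * E ^ u.b.val * ((if u.i then W₁ else 1) * (if u.k then W₂ else 1))

namespace Rels

variable {N : ℕ} [NeZero N] {X E W₁ W₂ : H} (R : Rels N X E W₁ W₂)
include R

omit R in
theorem pow_val {g : H} (hg : g ^ N = 1) (a b : ZMod N) :
    g ^ (a + b).val = g ^ a.val * g ^ b.val := by
  rw [ZMod.val_add, ← pow_eq_pow_mod _ hg, pow_add]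

omit R in
theorem pow_val_neg {g : H} (hg : g ^ N = 1) (a : ZMod N) : g ^ (-a).val = (g ^ a.val)⁻¹ := by
  refine eq_inv_of_mul_eq_one_left ?_
  rw [← pow_val hg, neg_add_cancel, ZMod.val_zero, pow_zero]

omit [NeZero N] in
theorem comm_pow (a b : ℕ) : X ^ a * E ^ b = E ^ b * X ^ a :=
  ((Commute.pow_pow R.xe a b)).eq

theorem av_mul (a b a' b' : ZMod N) :
    X ^ (a + a').val * E ^ (b + b').val = X ^ a.val * E ^ b.val * (X ^ a'.val * E ^ b'.val) := by
  rw [pow_val R.xN, pow_val R.eN,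
    show X ^ a.val * E ^ b.val * (X ^ a'.val * E ^ b'.val) =
      X ^ a.val * (E ^ b.val * X ^ a'.val) * E ^ b'.val by group, ← R.comm_pow]
  group

theorem move1 (a b : ZMod N) :
    W₁ * (X ^ a.val * E ^ b.val) = X ^ (-a - b).val * E ^ b.val * W₁ := by
  rw [← mul_inv_eq_iff_eq_mul,
    show W₁ * (X ^ a.val * E ^ b.val) * W₁⁻¹ = W₁ * X ^ a.val * W₁⁻¹ * (W₁ * E ^ b.val * W₁⁻¹) by group,
    ← conj_pow, ← conj_pow, R.w1x, R.w1e, (Commute.inv_right (Commute.symm R.xe)).mul_pow,
    sub_eq_add_neg, pow_val R.xN, pow_val_neg R.xN, pow_val_neg R.xN, inv_pow, inv_pow]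
  calc (X ^ a.val)⁻¹ * (E ^ b.val * (X ^ b.val)⁻¹)
      = (X ^ a.val)⁻¹ * ((X ^ b.val)⁻¹ * E ^ b.val) := by
        rw [(Commute.inv_right (Commute.symm (R.comm_pow b.val b.val))).eq]
    _ = _ := by group

theorem move2 (a b : ZMod N) :
    W₂ * (X ^ a.val * E ^ b.val) = X ^ (a + b).val * E ^ (-b).val * W₂ := by
  rw [← mul_inv_eq_iff_eq_mul,
    show W₂ * (X ^ a.val * E ^ b.val) * W₂⁻¹ = W₂ * X ^ a.val * W₂⁻¹ * (W₂ * E ^ b.val * W₂⁻¹) by group,
    ← conj_pow, ← conj_pow, R.w2x, R.w2e, (Commute.inv_right R.xe).mul_pow,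
    pow_val R.xN, pow_val_neg R.eN, inv_pow, mul_assoc]

theorem move (i k : Bool) (a b : ZMod N) :
    ((if i then W₁ else 1) * (if k then W₂ else 1)) * (X ^ a.val * E ^ b.val) =
      X ^ (act i k a b).1.val * E ^ (act i k a b).2.val *
        ((if i then W₁ else 1) * (if k then W₂ else 1)) := by
  cases i <;> cases k <;> simp only [act, if_true, if_false, one_mul, mul_one, Bool.false_eq_true]
  · exact R.move2 a b
  · exact R.move1 a b
  · rw [mul_assoc, R.move2, ← mul_assoc, R.move1,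
      show -(a + b) - -b = -a by ring]
    group

omit [NeZero N] in
theorem sq_part {W : H} (hW : W * W = X ^ (N / 2)) (i i' : Bool) :
    (if i then W else 1) * (if i' then W else 1) =
      X ^ (ind (i && i') (hf N)).val * (if xor i i' then W else 1) := by
  cases i <;> cases i' <;> simp [ind, hW, hf]
  exact pow_eq_pow_mod _ R.xN

omit [NeZero N] in
theorem comm_hf (i k : Bool) :
    Commute (if i then W₁ else 1) (X ^ (ind k (hf N)).val) := by
  have hx : X ^ ((N / 2 : ℕ) : ZMod N).val = X ^ (N / 2) := by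
    rw [ZMod.val_natCast, ← pow_eq_pow_mod _ R.xN]
  cases i <;> cases k <;> simp [ind, hf]
  rw [← ZMod.val_natCast, hx, ← R.w1w1]
  exact (Commute.refl W₁).mul_right (Commute.refl W₁)

theorem wmul (i k i' k' : Bool) :
    ((if i then W₁ else 1) * (if k then W₂ else 1)) *
      ((if i' then W₁ else 1) * (if k' then W₂ else 1)) =
    X ^ ((ind (i && i') (hf N)) + (ind (k && k') (hf N))).val *
      ((if xor i i' then W₁ else 1) * (if xor k k' then W₂ else 1)) := by
  have hww : Commute (if k then W₂ else 1) (if i' then W₁ else 1) := by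
    cases i' <;> cases k <;> simp
    exact R.ww.symm
  rw [pow_val R.xN, mul_assoc, ← mul_assoc (if k then W₂ else 1), hww.eq, mul_assoc,
    R.sq_part R.w2w2, ← mul_assoc, R.sq_part R.w1w1,
    mul_assoc (X ^ (ind (i && i') (hf N)).val), ← mul_assoc (if xor i i' then W₁ else 1),
    (R.comm_hf (xor i i') (k && k')).eq]
  group

theorem gen_mul (u v : Elt N) : gen X E W₁ W₂ (u.mul v) = gen X E W₁ W₂ u * gen X E W₁ W₂ v := by
  obtain ⟨a, b, i, k⟩ := u
  obtain ⟨a', b', i', k'⟩ := v
  simp only [gen, Elt.mul]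
  rw [add_assoc (a + _) (ind _ _), pow_val R.xN, pow_val R.xN, pow_val R.eN]
  have hc : X ^ (ind (i && i') (hf N) + ind (k && k') (hf N)).val *
      E ^ (act i k a' b').2.val = E ^ (act i k a' b').2.val *
      X ^ (ind (i && i') (hf N) + ind (k && k') (hf N)).val := R.comm_pow _ _
  calc X ^ a.val * X ^ (act i k a' b').1.val * X ^ (ind (i && i') (hf N) + ind (k && k') (hf N)).val *
        (E ^ b.val * E ^ (act i k a' b').2.val) *
        ((if xor i i' then W₁ else 1) * if xor k k' then W₂ else 1)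
      = X ^ a.val * (X ^ ((act i k a' b').1.val + (ind (i && i') (hf N) + ind (k && k') (hf N)).val) *
          E ^ b.val) * E ^ (act i k a' b').2.val *
          ((if xor i i' then W₁ else 1) * if xor k k' then W₂ else 1) := by
        rw [pow_add]; group
    _ = X ^ a.val * E ^ b.val * (X ^ (act i k a' b').1.val *
          (X ^ (ind (i && i') (hf N) + ind (k && k') (hf N)).val * E ^ (act i k a' b').2.val)) *
          ((if xor i i' then W₁ else 1) * if xor k k' then W₂ else 1) := by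
        rw [R.comm_pow, pow_add]; group
    _ = X ^ a.val * E ^ b.val * (X ^ (act i k a' b').1.val * E ^ (act i k a' b').2.val *
          (((if i then W₁ else 1) * if k then W₂ else 1) *
            ((if i' then W₁ else 1) * if k' then W₂ else 1))) := by
        rw [hc, R.wmul]; group
    _ = _ := by
        rw [← mul_assoc (X ^ (act i k a' b').1.val * E ^ (act i k a' b').2.val), ← R.move]
        group

end Rels

end Cfsg.Agent.G2Fusion
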