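import Cfsg.Agent.Chev.G2OddCentralizer
import Cfsg.Agent.G2Fusion.GLData
import Cfsg.Agent.G2Fusion.Gens

/-!
A Sylow 2-subgroup of the Chevalley group of type G₂ over a finite field of odd order, as a table on quadruples.
-/

set_option autoImplicit false
set_option maxRecDepth 100000
set_option maxHeartbeats 1000000

namespace Cfsg.Agent.G2Fusion

open Cfsg.Lie Cfsg.Agent.Chev Cfsg.Agent.Chev.G2Odd Cfsg.Agent.GroupSub.GL2Two Matrix
open Cfsg.Agent.Chev.G2Invol (ia ib)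
open Cfsg.Agent.G2Zorn (Xg mem_Xg)
open scoped MatrixGroups

universe u

variable {F : Type u} [Field F]

local notation "SL2F" => SpecialLinearGroup (Fin 2) F
local notation "GL2" => GL (Fin 2) F
local notation:1024 "↥ₘ" A:1024 => ((A : GL (Fin 2) F) : Matrix (Fin 2) (Fin 2) F)

theorem root_signs : chevG2.cartan ib 7 = -1 ∧ chevG2.cartan ib 4 = 1 ∧ chevG2.cartan ib 11 = 1 ∧
    chevG2.cartan ib 0 = -1 ∧ 7 < chevG2.nroots ∧ 4 < chevG2.nroots ∧ 11 < chevG2.nroots ∧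
    0 < chevG2.nroots := by
  decide +kernel

/-- `diag(1, d)`. -/
noncomputable def D₁ : Fˣ →* GL2 :=
  MonoidHom.mk' (fun d => Matrix.GeneralLinearGroup.mkOfDetNeZero !![1, 0; 0, (d : F)] (by simp))
    fun a b => Units.ext (by
      ext i j
      fin_cases i <;> fin_cases j <;> simp [Matrix.mul_apply, Fin.sum_univ_two])

/-- `diag(d, 1)`. -/
noncomputable def D₂ : Fˣ →* GL2 :=
  MonoidHom.mk' (fun d => Matrix.GeneralLinearGroup.mkOfDetNeZero !![(d : F), 0; 0, 1] (by simp))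
    fun a b => Units.ext (by
      ext i j
      fin_cases i <;> fin_cases j <;> simp [Matrix.mul_apply, Fin.sum_univ_two])

theorem coe_D₁ (d : Fˣ) : ↥ₘ(D₁ d) = !![1, 0; 0, (d : F)] := rfl

theorem coe_D₂ (d : Fˣ) : ↥ₘ(D₂ d) = !![(d : F), 0; 0, 1] := rfl

/-- An element of determinant one as an element of `SL₂`. -/
def toSL (g : GL2) (h : (↥ₘ g).det = 1) : SL2F := ⟨↥ₘ g, h⟩

/-- Conjugation of `SL₂` by an element of `GL₂`. -/
noncomputable def cjSL (g : GL2) : SL2F →* SL2F :=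
  MonoidHom.mk' (fun A => ⟨↥ₘ g * A.1 * ↥ₘ(g⁻¹), by
      rw [det_mul, det_mul, A.2, mul_one, ← det_mul, Units.mul_inv, det_one]⟩)
    fun A B => Subtype.ext (by
      show ↥ₘ g * (A.1 * B.1) * ↥ₘ(g⁻¹) = ↥ₘ g * A.1 * ↥ₘ(g⁻¹) * (↥ₘ g * B.1 * ↥ₘ(g⁻¹))
      simp only [Matrix.mul_assoc]
      rw [← Matrix.mul_assoc ↥ₘ(g⁻¹) ↥ₘ g, Units.inv_mul, Matrix.one_mul])

theorem coe_cjSL (g : GL2) (A : SL2F) : (cjSL g A).1 = ↥ₘ g * A.1 * ↥ₘ(g⁻¹) := rfl

/-- A torus element conjugates the image of a rank one homomorphism as `D`. -/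
theorem torus_conj {φ : SL2F →* GL chevG2.Idx F} {r r' : ℕ} (R : Rank1 φ r r')
    (hr : r < chevG2.nroots) (hr' : r' < chevG2.nroots) (D : GL2) (d : Fˣ) {a b : ℤ}
    (ha : chevG2.cartan ib r = a) (hb : chevG2.cartan ib r' = b)
    (hu : ∀ t, cjSL D (SL2Data.upper t) = SL2Data.upper (((d ^ a : Fˣ) : F) * t))
    (hl : ∀ t, cjSL D (lower t) = lower (((d ^ b : Fˣ) : F) * t)) (A : SL2F) :
    torusHom (Pi.mulSingle ib d) * φ A = φ (cjSL D A) * torusHom (Pi.mulSingle ib d) := by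
  refine sl2_gen ({
    carrier := {A | torusHom (Pi.mulSingle ib d) * φ A = φ (cjSL D A) * torusHom (Pi.mulSingle ib d)}
    one_mem' := by simp
    mul_mem' := fun {A B} hA hB => by
      show _ = _
      rw [map_mul φ, ← mul_assoc, hA, mul_assoc, hB, ← mul_assoc, ← map_mul φ, ← map_mul (cjSL D)] }
      : Submonoid SL2F) (fun t => ?_) (fun t => ?_) A
  · obtain ⟨k, -, hk⟩ := R.up
    show _ = _
    rw [hu, hk, hk, torusHom_conj facts_chevG2.{u} _ hr, chiU_mulSingle ib.2, ha]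
    congr 2
    ring
  · obtain ⟨k, -, hk⟩ := R.lo
    show _ = _
    rw [hl, hk, hk, torusHom_conj facts_chevG2.{u} _ hr', chiU_mulSingle ib.2, hb]
    congr 2
    ring

theorem commuting_homs {φ₁ φ₂ : SL2F →* GL chevG2.Idx F} (R₁ : Rank1 φ₁ 7 4) (R₂ : Rank1 φ₂ 11 0)
    (A B : SL2F) : φ₁ A * φ₂ B = φ₂ B * φ₁ A := by
  obtain ⟨-, -, -, -, -, -, -, -, hcomm, -⟩ := root_tables
  have hcm : ∀ p ∈ ([(7, 11), (7, 0), (4, 11), (4, 0)] : List (ℕ × ℕ)), ∀ s t : F,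
      Commute (xG facts_chevG2.{u} p.1 s) (xG facts_chevG2.{u} p.2 t) := by
    intro p hp s t
    obtain ⟨a1, a2, a3, a4, a5⟩ := hcomm p hp
    have := xG_comm facts_chevG2.{u} a1 a2 a3 a4 s t
    rw [ChevalleyDatum.commWord, a5, List.map_nil, wordG, List.map_nil, List.prod_nil,
      mul_one] at this
    exact this.symm
  have h2 : ∀ r ∈ ([7, 4] : List ℕ), ∀ s : F,
      φ₂.range ≤ Subgroup.centralizer {xG facts_chevG2.{u} r s} := by
    intro r hr s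
    refine R₂.range_le (fun t => ?_) (fun t => ?_) <;>
      rw [Subgroup.mem_centralizer_singleton_iff]
    · exact (hcm (r, 11) (by simp at hr; rcases hr with rfl | rfl <;> simp) s t).eq.symm
    · exact (hcm (r, 0) (by simp at hr; rcases hr with rfl | rfl <;> simp) s t).eq.symm
  have h1 : φ₁.range ≤ Subgroup.centralizer {φ₂ B} := by
    refine R₁.range_le (fun s => ?_) (fun s => ?_) <;> rw [Subgroup.mem_centralizer_singleton_iff]
    · exact (Subgroup.mem_centralizer_singleton_iff.1 (h2 7 (by simp) s ⟨B, rfl⟩)).symm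
    · exact (Subgroup.mem_centralizer_singleton_iff.1 (h2 4 (by simp) s ⟨B, rfl⟩)).symm
  exact Subgroup.mem_centralizer_singleton_iff.1 (h1 ⟨A, rfl⟩)

theorem scalar_of_comm_unip {g : GL2}
    (h1 : ∀ t : F, cjSL g (SL2Data.upper t) = SL2Data.upper t)
    (h2 : ∀ t : F, cjSL g (lower t) = lower t) : ∃ r : Fˣ, g = sc r := by
  have e1 : ↥ₘ g * !![1, 1; 0, 1] = !![1, 1; 0, 1] * ↥ₘ g := by
    have h := congrArg Subtype.val (h1 1)
    rw [coe_cjSL] at h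
    change ↥ₘ g * !![1, 1; 0, 1] * ↥ₘ(g⁻¹) = !![1, 1; 0, 1] at h
    conv_rhs => rw [← h]
    rw [Matrix.mul_assoc, Units.inv_mul, Matrix.mul_one]
  have e2 : ↥ₘ g * !![1, 0; 1, 1] = !![1, 0; 1, 1] * ↥ₘ g := by
    have h := congrArg Subtype.val (h2 1)
    rw [coe_cjSL] at h
    change ↥ₘ g * !![1, 0; 1, 1] * ↥ₘ(g⁻¹) = !![1, 0; 1, 1] at h
    conv_rhs => rw [← h]
    rw [Matrix.mul_assoc, Units.inv_mul, Matrix.mul_one]
  have a00 := congrFun (congrFun e1 0) 0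
  have a01 := congrFun (congrFun e1 0) 1
  have b00 := congrFun (congrFun e2 0) 0
  simp [Matrix.mul_apply, Fin.sum_univ_two] at a00 a01 b00
  have hd : (↥ₘ g) 1 1 = (↥ₘ g) 0 0 := by linear_combination -a01
  have hne : (↥ₘ g) 0 0 ≠ 0 := fun e => by
    have := g.det_ne_zero
    rw [det_fin_two] at this
    exact this (by rw [e, b00, zero_mul, zero_mul, sub_zero])
  refine ⟨Units.mk0 _ hne, Units.ext ?_⟩
  rw [coe_sc]
  ext i j
  fin_cases i <;> fin_cases j <;> simp [a00, b00, hd]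

/-- The homomorphism from the pairs of equal determinant onto part of the centraliser of an involution. -/
theorem exists_psi [Fintype F] (hF : Odd (Fintype.card F)) :
    ∃ Ψ : Xg F →* GL chevG2.Idx F, (∀ p, Ψ p ∈ chevG2.group F) ∧
      ∀ p : Xg F, Ψ p = 1 ↔ ∃ r : Fˣ, p.1 = (sc r, sc r) := by
  classical
  obtain ⟨φ₁, φ₂, R₁, R₂, hG₁, hG₂, hT₁, hT₂, -⟩ := exists_homs (F := F)
  obtain ⟨c7, c4, c11, c0, h7, h4, h11, h0⟩ := root_signs
  have hcom := commuting_homs R₁ R₂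
  let τ : Fˣ →* GL chevG2.Idx F := torusHom.comp (MonoidHom.mulSingle (fun _ : Fin chevG2.rank => Fˣ) ib)
  have hτ : ∀ d, τ d = torusHom (Pi.mulSingle ib d) := fun _ => rfl
  have hc₁ : ∀ d A, τ d * φ₁ A = φ₁ (cjSL (D₁ d) A) * τ d := fun d A =>
    torus_conj R₁ h7 h4 (D₁ d) d c7 c4 (fun t => Subtype.ext (by
      rw [coe_cjSL, ← map_inv D₁, coe_D₁, coe_D₁]
      ext i j
      fin_cases i <;> fin_cases j <;> simp [SL2Data.upper, Matrix.mul_apply, Fin.sum_univ_two] <;> ring))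
      (fun t => Subtype.ext (by
      rw [coe_cjSL, ← map_inv D₁, coe_D₁, coe_D₁]
      ext i j
      fin_cases i <;> fin_cases j <;> simp [lower, Matrix.mul_apply, Fin.sum_univ_two])) A
  have hc₂ : ∀ d A, τ d * φ₂ A = φ₂ (cjSL (D₂ d) A) * τ d := fun d A =>
    torus_conj R₂ h11 h0 (D₂ d) d c11 c0 (fun t => Subtype.ext (by
      rw [coe_cjSL, ← map_inv D₂, coe_D₂, coe_D₂]
      ext i j
      fin_cases i <;> fin_cases j <;> simp [SL2Data.upper, Matrix.mul_apply, Fin.sum_univ_two]))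
      (fun t => Subtype.ext (by
      rw [coe_cjSL, ← map_inv D₂, coe_D₂, coe_D₂]
      ext i j
      fin_cases i <;> fin_cases j <;> simp [lower, Matrix.mul_apply, Fin.sum_univ_two] <;> ring)) A
  let δ : Xg F →* Fˣ := Matrix.GeneralLinearGroup.det.comp ((MonoidHom.fst GL2 GL2).comp (Xg F).subtype)
  have hδ : ∀ p : Xg F, (↥ₘ(p.1.1)).det = (δ p : F) ∧ (↥ₘ(p.1.2)).det = (δ p : F) := fun p =>
    ⟨rfl, (mem_Xg.1 p.2).symm⟩
  have hs₁ : ∀ p : Xg F, (↥ₘ(p.1.1 * (D₁ (δ p))⁻¹)).det = 1 := fun p => by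
    rw [Units.val_mul, det_mul, (hδ p).1, ← map_inv, coe_D₁, det_fin_two_of]
    simp
  have hs₂ : ∀ p : Xg F, (↥ₘ(p.1.2 * (D₂ (δ p))⁻¹)).det = 1 := fun p => by
    rw [Units.val_mul, det_mul, (hδ p).2, ← map_inv, coe_D₂, det_fin_two_of]
    simp
  let s₁ : Xg F → SL2F := fun p => toSL _ (hs₁ p)
  let s₂ : Xg F → SL2F := fun p => toSL _ (hs₂ p)
  have hm₁ : ∀ p q, s₁ (p * q) = s₁ p * cjSL (D₁ (δ p)) (s₁ q) := fun p q => Subtype.ext (by
    show ↥ₘ((p * q).1.1 * (D₁ (δ (p * q)))⁻¹) = ↥ₘ(p.1.1 * (D₁ (δ p))⁻¹) *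
      (↥ₘ(D₁ (δ p)) * ↥ₘ(q.1.1 * (D₁ (δ q))⁻¹) * ↥ₘ((D₁ (δ p))⁻¹))
    rw [map_mul δ, map_mul D₁, ← Units.val_mul, ← Units.val_mul, ← Units.val_mul]
    congr 1
    show p.1.1 * q.1.1 * _ = _
    rw [_root_.mul_inv_rev]
    group)
  have hm₂ : ∀ p q, s₂ (p * q) = s₂ p * cjSL (D₂ (δ p)) (s₂ q) := fun p q => Subtype.ext (by
    show ↥ₘ((p * q).1.2 * (D₂ (δ (p * q)))⁻¹) = ↥ₘ(p.1.2 * (D₂ (δ p))⁻¹) *
      (↥ₘ(D₂ (δ p)) * ↥ₘ(q.1.2 * (D₂ (δ q))⁻¹) * ↥ₘ((D₂ (δ p))⁻¹))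
    rw [map_mul δ, map_mul D₂, ← Units.val_mul, ← Units.val_mul, ← Units.val_mul]
    congr 1
    show p.1.2 * q.1.2 * _ = _
    rw [_root_.mul_inv_rev]
    group)
  let Ψ : Xg F →* GL chevG2.Idx F := MonoidHom.mk' (fun p => φ₁ (s₁ p) * φ₂ (s₂ p) * τ (δ p))
    fun p q => by
      rw [hm₁, hm₂, map_mul δ, map_mul τ, map_mul φ₁, map_mul φ₂]
      calc φ₁ (s₁ p) * φ₁ (cjSL (D₁ (δ p)) (s₁ q)) * (φ₂ (s₂ p) * φ₂ (cjSL (D₂ (δ p)) (s₂ q))) *
            (τ (δ p) * τ (δ q))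
          = φ₁ (s₁ p) * (φ₁ (cjSL (D₁ (δ p)) (s₁ q)) * φ₂ (s₂ p)) *
            (φ₂ (cjSL (D₂ (δ p)) (s₂ q)) * τ (δ p)) * τ (δ q) := by group
        _ = φ₁ (s₁ p) * φ₂ (s₂ p) * (φ₁ (cjSL (D₁ (δ p)) (s₁ q)) * τ (δ p)) * φ₂ (s₂ q) * τ (δ q) := by
            rw [hcom, ← hc₂]; group
        _ = _ := by rw [← hc₁]; group
  refine ⟨Ψ, fun p => ?_, ?_⟩
  · refine Subgroup.mul_mem _ (Subgroup.mul_mem _ (hG₁ ⟨_, rfl⟩) (hG₂ ⟨_, rfl⟩)) ?_
    exact borel_le_group facts_chevG2.{u} (Subgroup.mem_sup_right (torusHom_mem facts_chevG2.{u} _))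
  have hab : ib ≠ ia := by decide +kernel
  have hdiag : ∀ r : Fˣ, ∀ p : Xg F, p.1 = (sc r, sc r) → Ψ p = 1 := by
    rintro r ⟨⟨g, g'⟩, hp⟩ e
    cases e
    have hd : δ ⟨(sc r, sc r), hp⟩ = r ^ 2 := Units.ext (by
      rw [← (hδ _).1]
      show (↥ₘ(sc r)).det = _
      rw [det_sc, Units.val_pow_eq_pow_val])
    have e1 : s₁ ⟨(sc r, sc r), hp⟩ = diag2 r := Subtype.ext (by
      show ↥ₘ(sc r * (D₁ (δ ⟨(sc r, sc r), hp⟩))⁻¹) = !![(r : F), 0; 0, (r : F)⁻¹]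
      rw [hd, Units.val_mul, coe_sc, ← map_inv, coe_D₁]
      ext i j
      fin_cases i <;> fin_cases j <;> simp [Matrix.mul_apply, Fin.sum_univ_two] <;> field_simp)
    have e2 : s₂ ⟨(sc r, sc r), hp⟩ = diag2 r⁻¹ := Subtype.ext (by
      show ↥ₘ(sc r * (D₂ (δ ⟨(sc r, sc r), hp⟩))⁻¹) =
        !![((r⁻¹ : Fˣ) : F), 0; 0, ((r⁻¹ : Fˣ) : F)⁻¹]
      rw [hd, Units.val_mul, coe_sc, ← map_inv, coe_D₂]
      ext i j
      fin_cases i <;> fin_cases j <;> simp [Matrix.mul_apply, Fin.sum_univ_two] <;> field_simp)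
    show φ₁ _ * φ₂ _ * τ _ = 1
    rw [e1, e2, hd, hT₁, hT₂, hτ, ← map_mul, ← map_mul, ← mul_assoc, ← Pi.mulSingle_mul,
      mul_inv_cancel, Pi.mulSingle_one, one_mul, ← Pi.mulSingle_mul, inv_pow, inv_mul_cancel,
      Pi.mulSingle_one, map_one]
  intro p
  refine ⟨fun hp => ?_, fun ⟨r, hr⟩ => hdiag r p hr⟩
  have hemb₁ : ∀ A : SL2F, ∃ h : ((A : GL2), (1 : GL2)) ∈ Xg F, Ψ ⟨_, h⟩ = φ₁ A := fun A => by
    have hA : (↥ₘ(A : GL2)).det = 1 := A.2
    refine ⟨mem_Xg.2 (by rw [hA, Units.val_one, det_one]), ?_⟩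
    have hd : δ ⟨((A : GL2), (1 : GL2)), mem_Xg.2 (by rw [hA, Units.val_one, det_one])⟩ = 1 :=
      Units.ext ((hδ _).1.symm.trans hA)
    show φ₁ _ * φ₂ _ * τ _ = φ₁ A
    rw [hd, map_one τ, mul_one]
    have ea : s₁ ⟨((A : GL2), (1 : GL2)), mem_Xg.2 (by rw [hA, Units.val_one, det_one])⟩ = A :=
      Subtype.ext (by
        show ↥ₘ((A : GL2) * (D₁ (δ _))⁻¹) = A.1
        rw [hd, map_one, inv_one, mul_one]; rfl)
    have eb : s₂ ⟨((A : GL2), (1 : GL2)), mem_Xg.2 (by rw [hA, Units.val_one, det_one])⟩ = 1 :=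
      Subtype.ext (by
        show ↥ₘ((1 : GL2) * (D₂ (δ _))⁻¹) = 1
        rw [hd, map_one, inv_one, mul_one]; rfl)
    rw [ea, eb, map_one, mul_one]
  have hemb₂ : ∀ A : SL2F, ∃ h : ((1 : GL2), (A : GL2)) ∈ Xg F, Ψ ⟨_, h⟩ = φ₂ A := fun A => by
    have hA : (↥ₘ(A : GL2)).det = 1 := A.2
    refine ⟨mem_Xg.2 (by rw [hA, Units.val_one, det_one]), ?_⟩
    have hd : δ ⟨((1 : GL2), (A : GL2)), mem_Xg.2 (by rw [hA, Units.val_one, det_one])⟩ = 1 :=
      Units.ext ((hδ _).1.symm.trans (by simp))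
    show φ₁ _ * φ₂ _ * τ _ = φ₂ A
    rw [hd, map_one τ, mul_one]
    have ea : s₁ ⟨((1 : GL2), (A : GL2)), mem_Xg.2 (by rw [hA, Units.val_one, det_one])⟩ = 1 :=
      Subtype.ext (by
        show ↥ₘ((1 : GL2) * (D₁ (δ _))⁻¹) = 1
        rw [hd, map_one, inv_one, mul_one]; rfl)
    have eb : s₂ ⟨((1 : GL2), (A : GL2)), mem_Xg.2 (by rw [hA, Units.val_one, det_one])⟩ = A :=
      Subtype.ext (by
        show ↥ₘ((A : GL2) * (D₂ (δ _))⁻¹) = A.1
        rw [hd, map_one, inv_one, mul_one]; rfl)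
    rw [ea, eb, map_one, one_mul]
  have hfix₁ : ∀ A : SL2F, cjSL p.1.1 A = A := fun A => by
    obtain ⟨h, hA⟩ := hemb₁ A
    obtain ⟨h', hB⟩ := hemb₁ (cjSL p.1.1 A)
    refine R₁.inj ?_
    rw [← hB, ← hA]
    have e : (⟨_, h'⟩ : Xg F) = p * ⟨_, h⟩ * p⁻¹ := Subtype.ext (Prod.ext (Units.ext (by
      show (cjSL p.1.1 A).1 = ↥ₘ(p.1.1 * (A : GL2) * p.1.1⁻¹)
      rw [Units.val_mul, Units.val_mul, coe_cjSL]
      rfl)) (by
      show (1 : GL2) = p.1.2 * 1 * p.1.2⁻¹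
      simp))
    rw [e, map_mul, map_mul, map_inv, hp, one_mul, inv_one, mul_one]
  have hfix₂ : ∀ A : SL2F, cjSL p.1.2 A = A := fun A => by
    obtain ⟨h, hA⟩ := hemb₂ A
    obtain ⟨h', hB⟩ := hemb₂ (cjSL p.1.2 A)
    refine R₂.inj ?_
    rw [← hB, ← hA]
    have e : (⟨_, h'⟩ : Xg F) = p * ⟨_, h⟩ * p⁻¹ := Subtype.ext (Prod.ext (by
      show (1 : GL2) = p.1.1 * 1 * p.1.1⁻¹
      simp) (Units.ext (by
      show (cjSL p.1.2 A).1 = ↥ₘ(p.1.2 * (A : GL2) * p.1.2⁻¹)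
      rw [Units.val_mul, Units.val_mul, coe_cjSL]
      rfl)))
    rw [e, map_mul, map_mul, map_inv, hp, one_mul, inv_one, mul_one]
  obtain ⟨r, hr⟩ := scalar_of_comm_unip (fun t => hfix₁ _) (fun t => hfix₁ _)
  obtain ⟨s, hs⟩ := scalar_of_comm_unip (fun t => hfix₂ _) (fun t => hfix₂ _)
  have hd := mem_Xg.1 p.2
  rw [hr, hs, det_sc, det_sc] at hd
  rcases sq_eq_sq_iff_eq_or_eq_neg.1 hd with e | e
  · exact ⟨r, Prod.ext hr (by rw [hs, show s = r from (Units.ext e).symm])⟩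
  · exfalso
    have hneg : (-1 : SL2F) = diag2 (-1) := Subtype.ext (by
      ext i j
      fin_cases i <;> fin_cases j <;> simp [diag2])
    obtain ⟨h, hA⟩ := hemb₂ (diag2 (-1))
    have hrr : ((sc r, sc r) : GL2 × GL2) ∈ Xg F := mem_Xg.2 rfl
    have ep : p = ⟨_, hrr⟩ * ⟨_, h⟩ := Subtype.ext (Prod.ext
      (show p.1.1 = sc r * 1 by rw [hr, mul_one]) (by
        show p.1.2 = sc r * ((diag2 (-1) : SL2F) : GL2)
        rw [hs, show s = r * -1 from Units.ext (by simp [e]), map_mul, ← neg_one_eq_sc]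
        congr 1
        refine Units.ext ?_
        show ↥ₘ(-1) = (diag2 (-1) : SL2F).1
        rw [← hneg]; simp))
    have e2 : φ₂ (diag2 (-1)) = zI := by
      rw [hT₂, neg_one_sq, Pi.mulSingle_one, mul_one]; rfl
    rw [ep, map_mul, hdiag r _ rfl, one_mul, hA, e2] at hp
    exact zI_ne_one hF hp

theorem orderOf_mk_center {n : ℕ} {c k : GL2} {d : Fˣ} (h2 : (2 : F) ≠ 0) (hk : k = c * c * (sc d)⁻¹)
    (hdc : (↥ₘ c).det = (d : F)) (hkh : k ^ 2 ^ (n + 1) = -1) :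
    orderOf (QuotientGroup.mk c : GL2 ⧸ Subgroup.center GL2) = 2 ^ (n + 2) := by
  have h1 : k ^ 2 ^ (n + 1) = c ^ 2 ^ (n + 2) * ((sc d) ^ 2 ^ (n + 1))⁻¹ := by
    rw [hk, (show Commute (c * c) (sc d)⁻¹ from
      Subgroup.mem_center_iff.1 (inv_mem (sc_mem_center d)) (c * c)).mul_pow, inv_pow, pow_succ' 2 (n + 1), pow_mul, pow_two]
  refine orderOf_eq_prime_pow (p := 2) (n := n + 1) ?_ ?_
  · rw [← QuotientGroup.mk_pow, QuotientGroup.eq_one_iff, mem_center_iff_scalar]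
    rintro ⟨r, hr⟩
    have hc2 : c ^ 2 ^ (n + 2) = c ^ 2 ^ (n + 1) * c ^ 2 ^ (n + 1) := by
      rw [← pow_add]; congr 1; rw [pow_succ 2 (n + 1)]; omega
    have hdet : (r : F) ^ 2 = (d : F) ^ 2 ^ (n + 1) := by
      have := congrArg Matrix.det hr
      rw [Units.val_pow_eq_pow_val, det_pow, hdc] at this
      rw [this]; simp [Matrix.scalar_apply, pow_two]
    have e := congrArg (fun A : GL2 => (↥ₘ A) 0 0) (eq_mul_inv_iff_mul_eq.1 (h1.symm.trans hkh).symm)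
    simp only [← map_pow, hc2, Units.val_mul, hr, coe_sc, Units.val_neg, Units.val_one] at e
    simp [Units.val_pow_eq_pow_val, ← hdet, pow_two] at e
    have hr0 : r ≠ 0 := fun h0 => by
      rw [h0] at hdet
      exact pow_ne_zero _ d.ne_zero (hdet.symm.trans (by ring))
    exact mul_ne_zero h2 (mul_ne_zero hr0 hr0) (by linear_combination -e)
  · rw [← QuotientGroup.mk_pow, QuotientGroup.eq_one_iff,
      show c ^ 2 ^ (n + 1 + 1) = -1 * (sc d) ^ 2 ^ (n + 1) from (eq_mul_inv_iff_mul_eq.1 (hkh.symm.trans h1)).symm,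
      neg_one_eq_sc, ← map_pow, ← map_mul]
    exact sc_mem_center _

theorem sq_mul_prod_arith {q : ℕ} (hq : 1 ≤ q) :
    (q ^ 2 - 1) * (q ^ 6 - 1) = (q ^ 2 - 1) ^ 2 * (q ^ 4 + q ^ 2 + 1) := by
  obtain ⟨m, hm⟩ : ∃ m, q ^ 2 = m + 1 := ⟨q ^ 2 - 1, (Nat.sub_add_cancel (Nat.one_le_pow _ _ hq)).symm⟩
  rw [show q ^ 6 = (q ^ 2) ^ 3 by ring, show q ^ 4 = (q ^ 2) ^ 2 by ring, hm, Nat.add_sub_cancel,
    show (m + 1) ^ 3 = m * ((m + 1) ^ 2 + (m + 1) + 1) + 1 by ring, Nat.add_sub_cancel]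
  ring

/-- A Sylow 2-subgroup with the table of `Elt N`. -/
theorem exists_model [Fintype F] (hF : Odd (Fintype.card F)) :
    ∃ (N n : ℕ) (T : Sylow 2 ↥(chevG2.group F)) (P : Elt N → ↥(chevG2.group F)), N = 2 ^ (n + 2) ∧
      Nat.card ↥(T : Subgroup ↥(chevG2.group F)) = 4 * N ^ 2 ∧
      (∀ u, P u ∈ (T : Subgroup ↥(chevG2.group F))) ∧
      (∀ s ∈ (T : Subgroup ↥(chevG2.group F)), ∃ u, P u = s) ∧ Function.Injective P ∧
      ∀ u v, P (u.mul v) = P u * P v := by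
  classical
  have : Fact (Nat.Prime 2) := ⟨Nat.prime_two⟩
  have h2 : (2 : F) ≠ 0 := Ring.two_ne_zero (odd_ne_two hF)
  obtain ⟨Ψ, hΨG, hker⟩ := exists_psi (F := F) hF
  obtain ⟨⟨n, c, k, u, d, hc, hdc, hk, huu, hdu, hun, huc, hko, hkh, r, hr, hqr⟩⟩ := exists_data (F := F) hF
  set N := 2 ^ (n + 2) with hN
  have : NeZero N := ⟨by positivity⟩
  have hkJ : k ∈ cJ F := hk ▸ mul_mem (mul_mem hc hc) (inv_mem (sc_mem_cJ d))
  have hdk : (↥ₘ k).det = 1 := by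
    rw [hk, Units.val_mul, Units.val_mul, det_mul, det_mul, hdc, ← map_inv, det_sc,
      Units.val_inv_eq_inv_val]
    field_simp
  have hdet1 : ∀ g : GL2, (↥ₘ g).det = 1 → ((g, (1 : GL2)) : GL2 × GL2) ∈ Xg F := fun g hg =>
    mem_Xg.2 (by rw [hg]; simp)
  let pX : Xg F := ⟨(k, 1), hdet1 k hdk⟩
  let pE : Xg F := ⟨(c, c), mem_Xg.2 rfl⟩
  let p1 : Xg F := ⟨(u, 1), hdet1 u hdu⟩
  let p2 : Xg F := ⟨(1, u), mem_Xg.2 (by rw [hdu]; simp)⟩
  have hΨeq : ∀ {p q : Xg F}, (∃ r : Fˣ, p.1.1 = sc r * q.1.1 ∧ p.1.2 = sc r * q.1.2) → Ψ p = Ψ q := by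
    rintro p q ⟨r, hr₁, hr₂⟩
    have hrr : ((sc r, sc r) : GL2 × GL2) ∈ Xg F := mem_Xg.2 rfl
    rw [show p = ⟨_, hrr⟩ * q from Subtype.ext (Prod.ext hr₁ hr₂), map_mul,
      (hker _).2 ⟨r, rfl⟩, one_mul]
  have hd2 : N / 2 = 2 ^ (n + 1) := by rw [hN, pow_succ, Nat.mul_div_cancel _ two_pos]
  have hcN : c ^ N = sc (-1 * d ^ 2 ^ (n + 1)) := by
    have e : c * c = k * sc d := by rw [hk, inv_mul_cancel_right]
    rw [hN, show 2 ^ (n + 2) = 2 * 2 ^ (n + 1) by ring, pow_mul, pow_two, e,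
      (show Commute k (sc d) from Subgroup.mem_center_iff.1 (sc_mem_center d) k).mul_pow, hkh,
      map_mul, map_pow, ← neg_one_eq_sc]
  have hucc : u * c * u⁻¹ = sc d * c⁻¹ := by
    refine eq_mul_inv_iff_mul_eq.2 ?_
    rw [huc c hc]
    exact Units.ext (by rw [conj_eM_mul hc, coe_sc, hdc])
  have huk : u * k * u⁻¹ = k⁻¹ := by
    refine eq_inv_of_mul_eq_one_left ?_
    rw [huc k hkJ]
    exact Units.ext (by rw [conj_eM_mul hkJ, hdk, map_one, Units.val_one])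
  have hcd : Commute (sc d) c⁻¹ := (Subgroup.mem_center_iff.1 (sc_mem_center d) c⁻¹).symm
  set X := Ψ pX
  set E := Ψ pE
  set W₁ := Ψ p1
  set W₂ := Ψ p2
  have R : Rels N X E W₁ W₂ := by
    constructor
    · rw [← map_pow]
      exact (hker _).2 ⟨1, Prod.ext (by show k ^ N = _; rw [← hko, pow_orderOf_eq_one, map_one])
        (by show (1 : GL2) ^ N = _; rw [one_pow, map_one])⟩
    · rw [← map_pow]
      exact (hker _).2 ⟨_, Prod.ext hcN hcN⟩
    · rw [← map_mul, ← map_mul]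
      congr 1
      exact Subtype.ext (Prod.ext (cJ_comm hkJ hc) (by show (1 : GL2) * c = c * 1; simp))
    · rw [← map_mul, ← map_inv, ← map_mul, ← map_inv]
      exact congrArg Ψ (Subtype.ext (Prod.ext huk (by show (1 : GL2) * 1 * 1⁻¹ = 1⁻¹; simp)))
    · rw [← map_mul, ← map_inv, ← map_mul, ← map_inv, ← map_mul]
      refine hΨeq ⟨1, ?_, ?_⟩
      · show u * c * u⁻¹ = sc 1 * (c * k⁻¹)
        rw [hucc, map_one, one_mul, hk, _root_.mul_inv_rev, inv_inv, ← mul_assoc,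
          Subgroup.mem_center_iff.1 (sc_mem_center d) c]
        group
      · show 1 * c * 1⁻¹ = sc 1 * (c * 1⁻¹)
        simp
    · rw [← map_mul, ← map_inv, ← map_mul]
      exact congrArg Ψ (Subtype.ext (Prod.ext (by show 1 * k * 1⁻¹ = k; simp)
        (by show u * 1 * u⁻¹ = (1 : GL2); simp)))
    · rw [← map_mul, ← map_inv, ← map_mul, ← map_inv, ← map_mul]
      refine hΨeq ⟨d, ?_, ?_⟩
      · show 1 * c * 1⁻¹ = sc d * (k * c⁻¹)
        rw [hk, ← mul_assoc (sc d), ← mul_assoc (sc d),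
          ← Subgroup.mem_center_iff.1 (sc_mem_center d) (c * c), mul_inv_cancel_right]
        group
      · show u * c * u⁻¹ = sc d * (1 * c⁻¹)
        rw [one_mul, hucc]
    · rw [← map_mul, ← map_pow]
      refine hΨeq ⟨1, ?_, ?_⟩
      · show u * u = sc 1 * k ^ (N / 2)
        rw [map_one, one_mul, huu, hd2, hkh]
      · show (1 : GL2) * 1 = sc 1 * 1 ^ (N / 2)
        simp
    · rw [← map_mul, ← map_pow]
      refine hΨeq ⟨-1, ?_, ?_⟩
      · show (1 : GL2) * 1 = sc (-1) * k ^ (N / 2)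
        rw [hd2, hkh, ← neg_one_eq_sc, neg_mul_neg, mul_one]
      · show u * u = sc (-1) * 1 ^ (N / 2)
        rw [huu, ← neg_one_eq_sc, one_pow, mul_one]
    · rw [← map_mul, ← map_mul]
      exact congrArg Ψ (Subtype.ext (Prod.ext (by show u * 1 = 1 * u; simp) (by show 1 * u = u * 1; simp)))
  let pf : Elt N → Xg F := fun v =>
    pX ^ v.a.val * pE ^ v.b.val * ((if v.i then p1 else 1) * (if v.k then p2 else 1))
  have hgen : ∀ v, Ψ (pf v) = gen X E W₁ W₂ v := fun v => by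
    simp only [pf, gen, map_mul, map_pow, apply_ite (Ψ : Xg F → _), map_one, X, E, W₁, W₂]
  have hinj : Function.Injective (gen X E W₁ W₂ (N := N)) := by
    intro v v' h
    rw [← hgen, ← hgen] at h
    obtain ⟨r, hr'⟩ := (hker (pf v * (pf v')⁻¹)).1 (by rw [map_mul, map_inv, h, mul_inv_cancel])
    have pair : ∀ w : Elt N, (pf w).1 = (k ^ w.a.val * c ^ w.b.val * (if w.i then u else 1),
        c ^ w.b.val * (if w.k then u else 1)) := fun w => by
      cases hi : w.i <;> cases hk' : w.k <;> simp [pf, hi, hk', pX, pE, p1, p2]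
    rw [Subgroup.coe_mul, Subgroup.coe_inv, pair, pair, Prod.inv_mk, Prod.mk_mul_mk, Prod.mk.injEq] at hr'
    obtain ⟨f1, f2⟩ := hr'
    rw [mul_inv_eq_iff_eq_mul] at f1 f2
    have hflag : ∀ (x y : GL2) (i j : Bool), x ∈ cJ F → y ∈ cJ F →
        x * (if i then u else 1) = y * (if j then u else 1) → i = j ∧ x = y := by
      intro x y i j hx hy e
      cases i <;> cases j <;> simp at e ⊢
      · exact e
      · exact hun (by rw [← inv_mul_eq_iff_eq_mul.2 e]; exact mul_mem (inv_mem hy) hx)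
      · exact hun (by rw [← inv_mul_eq_iff_eq_mul.2 e.symm]; exact mul_mem (inv_mem hx) hy)
      · exact e
    rw [← mul_assoc] at f2
    obtain ⟨hkk, g2⟩ := hflag _ _ _ _ (pow_mem hc _) (mul_mem (sc_mem_cJ r) (pow_mem hc _)) f2
    rw [← mul_assoc, ← mul_assoc, show sc r * k ^ v'.a.val = k ^ v'.a.val * sc r from
      (Subgroup.mem_center_iff.1 (sc_mem_center r) _).symm, mul_assoc (k ^ v'.a.val), ← g2] at f1
    obtain ⟨hii, g1⟩ := hflag _ _ _ _ (mul_mem (pow_mem hkJ _) (pow_mem hc _))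
      (mul_mem (pow_mem hkJ _) (pow_mem hc _)) f1
    have ha : v.a = v'.a := ZMod.val_injective N (pow_injOn_Iio_orderOf
      (by simpa [hko] using ZMod.val_lt v.a) (by simpa [hko] using ZMod.val_lt v'.a) (mul_right_cancel g1))
    have hb : v.b = v'.b := by
      have hord := orderOf_mk_center h2 hk hdc hkh
      refine ZMod.val_injective N (pow_injOn_Iio_orderOf (x := (QuotientGroup.mk c : GL2 ⧸ Subgroup.center GL2))
        (by simpa [hord] using ZMod.val_lt v.b) (by simpa [hord] using ZMod.val_lt v'.b) ?_)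
      show (QuotientGroup.mk c : GL2 ⧸ Subgroup.center GL2) ^ v.b.val = _ ^ v'.b.val
      rw [← QuotientGroup.mk_pow, ← QuotientGroup.mk_pow, g2, QuotientGroup.mk_mul,
        (QuotientGroup.eq_one_iff _).2 (sc_mem_center r), one_mul]
    exact Elt.ext ha hb hii hkk
  let P : Elt N → ↥(chevG2.group F) := fun v => ⟨gen X E W₁ W₂ v, by rw [← hgen]; exact hΨG _⟩
  have hmul : ∀ v w, P (v.mul w) = P v * P w := fun v w => Subtype.ext (R.gen_mul v w)
  have hPinj : Function.Injective P := fun v w e => hinj (congrArg Subtype.val e)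
  have hone : P Elt.one = 1 := by
    refine Subtype.ext ?_
    simp [P, gen, Elt.one]
  let T : Subgroup ↥(chevG2.group F) :=
    { carrier := Set.range P
      one_mem' := ⟨_, hone⟩
      mul_mem' := by rintro _ _ ⟨v, rfl⟩ ⟨w, rfl⟩; exact ⟨_, hmul v w⟩
      inv_mem' := by
        rintro _ ⟨v, rfl⟩
        have hpow : ∀ m : ℕ, P v ^ m ∈ Set.range P := by
          intro m
          induction m with
          | zero => exact ⟨_, by rw [hone, pow_zero]⟩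
          | succ m ih => obtain ⟨w, hw⟩ := ih; exact ⟨w.mul v, by rw [hmul, hw, pow_succ]⟩
        obtain ⟨w, hw⟩ := hpow (orderOf (P v) - 1)
        refine ⟨w, eq_inv_of_mul_eq_one_left ?_⟩
        rw [hw, ← pow_succ, Nat.sub_add_cancel (orderOf_pos _), pow_orderOf_eq_one] }
  have hTcard : Nat.card T = 4 * N ^ 2 := by
    have e : Elt N ≃ ZMod N × ZMod N × Bool × Bool :=
      { toFun := fun v => (v.a, v.b, v.i, v.k)
        invFun := fun p => ⟨p.1, p.2.1, p.2.2.1, p.2.2.2⟩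
        left_inv := fun v => rfl
        right_inv := fun p => rfl }
    rw [show Nat.card T = Nat.card (Elt N) from (Nat.card_congr (Equiv.ofInjective P hPinj)).symm,
      Nat.card_congr e]
    simp [Nat.card_eq_fintype_card]
    ring
  have hTp : IsPGroup 2 T := IsPGroup.of_card (n := 2 + 2 * (n + 2)) (by
    rw [hTcard, hN, ← pow_mul, mul_comm (n + 2) 2, pow_add]
    norm_num)
  have hidx : ¬ 2 ∣ T.index := by
    set q := Fintype.card F with hq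
    have hG := g2_card_group F
    simp only [Fin.prod_univ_two, Fin.val_zero, Fin.val_one] at hG
    rw [show ([1, 1] : List ℕ).getD 0 0 = 1 from rfl, show ([1, 1] : List ℕ).getD 1 0 = 1 from rfl,
      Nat.gcd_one_right, one_mul, one_mul, ← T.card_mul_index, hTcard,
      show ((([2, 6] : List ℕ).map fun e => q ^ e - 1).prod) = (q ^ 2 - 1) * (q ^ 6 - 1) by simp,
      sq_mul_prod_arith Fintype.card_pos, hqr] at hG
    have e : T.index = q ^ 6 * r ^ 2 * (q ^ 4 + q ^ 2 + 1) := by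
      refine Nat.eq_of_mul_eq_mul_left (show 0 < 4 * N ^ 2 by positivity) ?_
      rw [hG]; ring
    rw [e, ← even_iff_two_dvd, Nat.not_even_iff_odd]
    refine ((hF.pow).mul hr.pow).mul ?_
    exact (Odd.add_odd hF.pow hF.pow).add_one
  exact ⟨N, n, hTp.toSylow hidx, P, hN, hTcard, fun v => ⟨v, rfl⟩, fun s hs => hs, hPinj, hmul⟩

end Cfsg.Agent.G2Fusion
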