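import Cfsg.Agent.G2Fusion.Fusion

/-!
The classes of involutions in a simple group with a Sylow 2-subgroup of the type of G₂(q), q odd.
-/

set_option autoImplicit false
set_option maxHeartbeats 1000000

namespace Cfsg.Agent.G2Fusion

variable {N n : ℕ}

/-- An indicator. -/
def bit (i : Bool) : ZMod 2 := if i then 1 else 0

theorem bit_xor : ∀ i j : Bool, bit (xor i j) = bit i + bit j := by decide

section Arith

variable (hN : N = 2 ^ (n + 2))
include hN

/-- The third parity. -/
def par3 (u : Elt N) : ZMod 2 := par hN u.b + bit u.i + bit u.k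

theorem par3_mul (u v : Elt N) : par3 hN (u.mul v) = par3 hN u + par3 hN v := by
  have h : par hN (act u.i u.k v.a v.b).2 = par hN v.b := by
    cases u.i <;> cases u.k <;> simp [act, map_neg, ZMod.neg_eq_self_mod_two]
  simp only [par3, Elt.mul, map_add, bit_xor, h]
  ring

theorem card_comm_j (a₀ b₀ : ZMod N) :
    Nat.card {u : Elt N // Comm u ⟨a₀, b₀, true, true⟩} ≤ 16 := by
  classical
  have : NeZero N := ⟨(N_pos hN).ne'⟩
  let T : Set (Elt N) := {u | Comm u ⟨a₀, b₀, true, true⟩}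
  let c : Bool → Bool → Elt N := fun i k =>
    if h : ∃ u ∈ T, u.i = i ∧ u.k = k then h.choose else Elt.one
  let f : T → Bool × Bool × Bool × Bool := fun u =>
    (u.1.i, u.1.k, decide (u.1.a = (c u.1.i u.1.k).a), decide (u.1.b = (c u.1.i u.1.k).b))
  have hf : Function.Injective f := by
    rintro ⟨u, hu⟩ ⟨v, hv⟩ e
    simp only [f, Prod.mk.injEq, decide_eq_decide] at e
    obtain ⟨ei, ek, ea, eb⟩ := e
    have hx : ∃ w ∈ T, w.i = u.i ∧ w.k = u.k := ⟨u, hu, rfl, rfl⟩
    obtain ⟨hc, hci, hck⟩ := hx.choose_spec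
    rw [← ei, ← ek] at ea eb
    simp only [c, dif_pos hx] at ea eb
    obtain ⟨cb, ca⟩ := comm_inv hc
    obtain ⟨ub, ua⟩ := comm_inv hu
    obtain ⟨vb, va⟩ := comm_inv hv
    rw [hci, hck] at ca
    rw [hck] at cb
    rw [← ei, ← ek] at va
    rw [← ek] at vb
    have two : ∀ {p q r : ZMod N}, (p = r ↔ q = r) → 2 * p = 2 * r → 2 * q = 2 * r → p = q := by
      intro p q r hiff hp hq
      by_cases h : p = r
      · exact h.trans (hiff.1 h).symm
      · rcases two_mul_eq_zero hN (show 2 * (p - r) = 0 by linear_combination hp) with e | e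
        · exact absurd (sub_eq_zero.1 e) h
        · rcases two_mul_eq_zero hN (show 2 * (q - r) = 0 by linear_combination hq) with e' | e'
          · exact absurd (hiff.2 (sub_eq_zero.1 e')) h
          · linear_combination e - e'
    exact Subtype.ext (Elt.ext (two ea (ua.trans ca.symm) (va.trans ca.symm))
      (two eb (ub.trans cb.symm) (vb.trans cb.symm)) ei ek)
  calc Nat.card T ≤ Nat.card (Bool × Bool × Bool × Bool) := Nat.card_le_card_of_injective f hf
    _ = 16 := by simp [Nat.card_eq_fintype_card]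

theorem card_comm_k1 : Nat.card {u : Elt N // Comm u k1E} = 4 * N := by
  have : NeZero N := ⟨(N_pos hN).ne'⟩
  rw [Nat.card_congr (show {u : Elt N // Comm u k1E} ≃ ZMod N × Bool × Bool from
    { toFun := fun u => (u.1.a, u.1.i, u.1.k)
      invFun := fun p => ⟨⟨p.1, -2 * p.1 - ind (xor p.2.1 p.2.2) (hf N), p.2.1, p.2.2⟩,
        (comm_k1 hN).2 rfl⟩
      left_inv := fun u => Subtype.ext (Elt.ext rfl ((comm_k1 hN).1 u.2).symm rfl rfl)
      right_inv := fun p => rfl }), Nat.card_prod, Nat.card_prod, Nat.card_zmod,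
    Nat.card_eq_fintype_card, Fintype.card_bool]
  ring

theorem card_comm_k2 : Nat.card {u : Elt N // Comm u k2E} = 4 * N := by
  have : NeZero N := ⟨(N_pos hN).ne'⟩
  rw [Nat.card_congr (show {u : Elt N // Comm u k2E} ≃ ZMod N × Bool × Bool from
    { toFun := fun u => (u.1.a, u.1.i, u.1.k)
      invFun := fun p => ⟨⟨p.1, ind (xor p.2.1 p.2.2) (hf N), p.2.1, p.2.2⟩,
        (comm_k2 hN).2 rfl⟩
      left_inv := fun u => Subtype.ext (Elt.ext rfl ((comm_k2 hN).1 u.2).symm rfl rfl)
      right_inv := fun p => rfl }), Nat.card_prod, Nat.card_prod, Nat.card_zmod,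
    Nat.card_eq_fintype_card, Fintype.card_bool]
  ring

theorem comm_of_low {u v : Elt N} (hu : Comm u k1E) (hv : Comm v k1E) (huk : u.k = false)
    (hvk : v.k = false) : Comm u v := by
  obtain ⟨a, b, i, k⟩ := u
  obtain ⟨a', b', i', k'⟩ := v
  subst huk hvk
  have h2 := two_hf hN
  have e := (comm_k1 hN).1 hu
  have e' := (comm_k1 hN).1 hv
  cases i <;> cases i' <;> simp [ind] at e e' <;> simp [Comm, Elt.mul, act, ind, e, e'] <;>
    (try constructor) <;>
    first
      | ring1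

theorem sq_of_high {u : Elt N} (hu : Comm u k1E) (huk : u.k = true) : u.mul u = Elt.one := by
  obtain ⟨a, b, i, k⟩ := u
  subst huk
  have h2 := two_hf hN
  have e := (comm_k1 hN).1 hu
  cases i <;> simp [ind] at e <;> simp [Elt.mul, Elt.one, act, ind, e] <;> (try constructor) <;>
    first
      | ring1
      | linear_combination h2

/-- An element of order four of the centraliser of `k1`. -/
theorem order_four_cases {v : Elt N} (hv : Comm v k1E) (h1 : v.mul v ≠ Elt.one)
    (h4 : (v.mul v).mul (v.mul v) = Elt.one) :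
    v.mul v = zE ∧ ((⟨qt N, hf N, false, false⟩ : Elt N) = v ∨
      (⟨qt N, hf N, false, false⟩ : Elt N) = v.mul zE ∨
      (⟨qt N, hf N, false, false⟩ : Elt N) = v.mul k1E ∨
      (⟨qt N, hf N, false, false⟩ : Elt N) = (v.mul zE).mul k1E) := by
  have hk : v.k = false := Bool.eq_false_iff.2 fun h => h1 (sq_of_high hN hv h)
  obtain ⟨a, b, i, k⟩ := v
  subst hk
  have h2 := two_hf hN
  have hq := two_qt hN
  have e := (comm_k1 hN).1 hv
  simp [Elt.mul, Elt.one] at h4
  cases i
  · simp [ind] at e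
    simp [act, ind] at h4
    have hb : b = -2 * a := by linear_combination e
    rcases two_mul_eq_zero hN (show 2 * (2 * a) = 0 by linear_combination h4.1) with ha | ha
    · exfalso
      exact h1 (by simp [Elt.mul, Elt.one, act, ind, hb]; constructor <;> first | linear_combination ha | linear_combination -2 * ha)
    · refine ⟨by simp [Elt.mul, zE, act, ind, hb]; constructor <;> first | linear_combination ha | linear_combination -2 * ha - h2, ?_⟩
      rcases two_mul_eq_hf hN ha with ha' | ha'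
      · refine Or.inl ?_
        simp [ha', hb]; linear_combination h2 + hq
      · refine Or.inr (Or.inl ?_)
        simp [Elt.mul, zE, act, ind, hb, ha']
        constructor
        · linear_combination hq
        · linear_combination -hq
  · simp [ind] at e
    simp [act, ind] at h4
    have hb : b = -2 * a - hf N := by linear_combination e
    rcases two_mul_eq_zero hN (show 2 * (2 * a) = 0 by
        linear_combination (norm := ring_nf) h4.1 - 2 * h2 + 2 * hb) with ha | ha
    · exfalso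
      refine h1 ?_
      simp [Elt.mul, Elt.one, act, ind, hb]
      constructor
      · linear_combination ha + h2
      · linear_combination -2 * ha - h2
    · refine ⟨by
        simp [Elt.mul, zE, act, ind, hb]
        constructor
        · linear_combination ha + h2
        · linear_combination -2 * ha - 2 * h2, ?_⟩
      rcases two_mul_eq_hf hN ha with ha' | ha'
      · refine Or.inr (Or.inr (Or.inl ?_))
        simp [Elt.mul, k1E, act, ind, hb, ha']
        linear_combination h2 + hq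
      · refine Or.inr (Or.inr (Or.inr ?_))
        simp [Elt.mul, k1E, zE, act, ind, hb, ha']
        constructor
        · linear_combination hq + h2
        · linear_combination -hq

end Arith

namespace Setup

variable {G : Type*} [Group G] [Finite G] {S : Sylow 2 G} (D : Setup S N) (hN : N = 2 ^ (n + 2))

omit [Finite G] in
theorem card_CS (r : Elt N) : Nat.card (D.CS r) = Nat.card {u : Elt N // Comm u r} :=
  (Nat.card_congr (Equiv.ofBijective (fun u : {u : Elt N // Comm u r} => (⟨D.P u.1, D.mem_CS u.2⟩ : D.CS r))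
    ⟨fun u v e => Subtype.ext (D.inj (congrArg Subtype.val e)), fun k => by
      obtain ⟨u, hu, e⟩ := D.exists_CS k.2
      exact ⟨⟨u, hu⟩, Subtype.ext e⟩⟩)).symm

include hN

omit [Finite G] in
theorem order_k1 : orderOf (D.P (k1E : Elt N)) = 2 :=
  D.order_two (by simp [Elt.mul, Elt.one, act, ind, k1E, ← two_mul, two_hf hN])
    (by simp [Elt.one, k1E])

omit [Finite G] in
theorem card_CS_le (hN4 : 4 ≤ N) {r : Elt N} (hr : r = k1E ∨ r = k2E ∨ (r.i = true ∧ r.k = true)) :
    Nat.card (D.CS r) ≤ 4 * N := by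
  rw [D.card_CS]
  rcases hr with rfl | rfl | ⟨hi, hk⟩
  · exact (card_comm_k1 hN).le
  · exact (card_comm_k2 hN).le
  · rw [show r = ⟨r.a, r.b, true, true⟩ from Elt.ext rfl rfl hi hk]
    exact (card_comm_j hN r.a r.b).trans (by omega)

/-- If `k1` is not fused to `z` then a 2-subgroup of its centraliser is conjugate into `C_S(k1)`. -/
theorem k1_extremal (hN4 : 4 ≤ N) (hne : ¬ IsConj (D.P k1E) (D.P zE))
    (he : IsConj (D.P eE) (D.P zE)) {K : Subgroup G} (hK : IsPGroup 2 K)
    (hKc : ∀ k ∈ K, k * D.P k1E = D.P k1E * k) :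
    ∃ h : G, h * D.P k1E * h⁻¹ = D.P k1E ∧ ∀ k ∈ K, h * k * h⁻¹ ∈ D.CS k1E := by
  have : Fact (Nat.Prime 2) := ⟨Nat.prime_two⟩
  set x := D.P k1E with hx
  set H := Subgroup.centralizer {x} with hH
  have hle : D.CS k1E ≤ H := inf_le_right
  have hxx : Comm (k1E : Elt N) k1E := rfl
  obtain ⟨Q, hQ⟩ :=
    ((D.CS_isPGroup k1E).comap_of_injective H.subtype H.subtype_injective).exists_le_sylow
  set Qm := (Q : Subgroup H).map H.subtype with hQm
  have hQle : D.CS k1E ≤ Qm := fun k hk => ⟨⟨k, hle hk⟩, hQ hk, rfl⟩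
  have hQH : Qm ≤ H := Subgroup.map_subtype_le _
  obtain ⟨g, -, hg⟩ := exists_conj_into S ⊤ le_top Qm (Q.isPGroup'.map _) le_top
  obtain ⟨u, hu⟩ := D.surj _ (hg x (hQle (D.mem_CS hxx)))
  have huc : IsConj x (D.P u) := isConj_iff.2 ⟨g, hu.symm⟩
  have hord : orderOf (D.P u) = 2 := (orderOf_eq_of_isConj huc).symm.trans
    (D.order_k1 hN)
  obtain ⟨r, hr, w, hw⟩ : ∃ r : Elt N,
      (r = k1E ∨ r = k2E ∨ (r.i = true ∧ r.k = true)) ∧ Cjg u r := by
    rcases D.exists_kind hN hord with e | ⟨hi, hk, e1, e2⟩ | ⟨hi, hk, e1⟩ | ⟨hi, hk, e1⟩ | ⟨hi, hk⟩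
    · exact absurd (e ▸ huc) hne
    · exact absurd (huc.trans ((D.isConj_of_cjg (cjg_e hN hi hk e1 e2)).trans he)) hne
    · exact ⟨_, Or.inl rfl, cjg_k1 hi hk e1⟩
    · exact ⟨_, Or.inr (Or.inl rfl), cjg_k2 hi hk e1⟩
    · exact ⟨u, Or.inr (Or.inr ⟨hi, hk⟩), Elt.one, by simp [Elt.mul, Elt.one, act, ind, hi, hk]⟩
  set g' := D.P w * g with hg'
  have hmap : Qm.map (MulAut.conj g').toMonoidHom ≤ D.CS r := by
    rintro _ ⟨k, hk, rfl⟩
    show g' * k * g'⁻¹ ∈ D.CS r
    refine ⟨?_, Subgroup.mem_centralizer_singleton_iff.2 ?_⟩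
    · rw [hg', show D.P w * g * k * (D.P w * g)⁻¹ = D.P w * (g * k * g⁻¹) * (D.P w)⁻¹ by group]
      exact Subgroup.mul_mem _ (Subgroup.mul_mem _ (D.mem w) (hg k hk)) (Subgroup.inv_mem _ (D.mem w))
    · have hr' : D.P r = g' * x * g'⁻¹ := by
        have e := congrArg D.P hw
        rw [D.map_mul, D.map_mul, hu] at e
        rw [hg', eq_comm, mul_inv_eq_iff_eq_mul]
        calc D.P w * g * x = D.P w * (g * x * g⁻¹) * g := by group
          _ = _ := by rw [e, mul_assoc]
      rw [hr', show g' * k * g'⁻¹ * (g' * x * g'⁻¹) = g' * (k * x) * g'⁻¹ by group,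
        Subgroup.mem_centralizer_singleton_iff.1 (hQH hk)]
      group
  have hinj : Function.Injective ((MulAut.conj g').toMonoidHom : G →* G) := (MulAut.conj g').injective
  have hcard : Nat.card Qm ≤ Nat.card (D.CS k1E) := by
    rw [D.card_CS k1E, card_comm_k1 hN]
    refine le_trans ?_ (D.card_CS_le hN hN4 hr)
    exact Nat.card_le_card_of_injective
      (fun k : Qm => (⟨_, hmap (Subgroup.mem_map_of_mem _ k.2)⟩ : D.CS r))
      fun a b e => Subtype.ext (hinj (congrArg Subtype.val e))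
  have heq : D.CS k1E = Qm := Subgroup.eq_of_le_of_card_ge hQle hcard
  have hKH : K ≤ H := fun k hk => Subgroup.mem_centralizer_singleton_iff.2 (hKc k hk)
  obtain ⟨R, hR⟩ := (hK.comap_of_injective H.subtype H.subtype_injective).exists_le_sylow
  obtain ⟨h, hh⟩ := MulAction.exists_smul_eq H R Q
  refine ⟨h, ?_, fun k hk => ?_⟩
  · rw [Subgroup.mem_centralizer_singleton_iff.1 h.2, mul_inv_cancel_right]
  · have h1 : MulAut.conj h • (⟨k, hKH hk⟩ : H) ∈ ((h • R : Sylow 2 H) : Subgroup H) := by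
      rw [Sylow.coe_subgroup_smul]
      exact Subgroup.smul_mem_pointwise_smul _ _ _ (hR hk)
    rw [hh] at h1
    rw [heq]
    exact ⟨_, h1, rfl⟩

/-- For `N` at least 8, `k1` is fused to `z`. -/
theorem k1_conj [IsSimpleGroup G] (hcard : 2 < Nat.card G) (h8 : 8 ∣ N)
    (he : IsConj (D.P eE) (D.P zE)) : IsConj (D.P k1E) (D.P zE) := by
  by_contra hne
  have h2 := two_hf hN
  have hN4 : 4 ≤ N := Nat.le_of_dvd (N_pos hN) (four_dvd hN)
  have hk1o : orderOf (D.P (k1E : Elt N)) = 2 :=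
    D.order_k1 hN
  -- the other mixed class
  have hk12 : IsConj (D.P k1E) (D.P k2E) := by
    obtain ⟨v, hv, hvo, hvc⟩ := D.transfer hN hcard (fun u => bit u.i)
      (fun u v => bit_xor u.i v.i) hk1o (by simp [k1E, bit])
    rcases D.exists_kind hN hvo with e | ⟨hi, hk, e1, e2⟩ | ⟨hi, hk, e1⟩ | ⟨hi, hk, e1⟩ | ⟨hi, hk⟩
    · exact absurd (e ▸ hvc) hne
    · exact absurd (hvc.trans ((D.isConj_of_cjg (cjg_e hN hi hk e1 e2)).trans he)) hne
    · simp [bit, hi] at hv
    · exact hvc.trans (D.isConj_of_cjg (cjg_k2 hi hk e1))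
    · simp [bit, hi] at hv
  -- an inverting conjugate
  obtain ⟨r, hr, hrc⟩ : ∃ r : Elt N, (r = jE ∨ r = jxE) ∧ IsConj (D.P r) (D.P k1E) := by
    obtain ⟨v, hv, hvo, hvc⟩ := D.transfer hN hcard (par3 hN) (par3_mul hN) hk1o
      (by simp [par3, k1E, bit, par_hf])
    rcases D.exists_kind hN hvo with e | ⟨hi, hk, e1, e2⟩ | ⟨hi, hk, e1⟩ | ⟨hi, hk, e1⟩ | ⟨hi, hk⟩
    · exact absurd (e ▸ hvc) hne
    · exact absurd (hvc.trans ((D.isConj_of_cjg (cjg_e hN hi hk e1 e2)).trans he)) hne
    · simp [par3, bit, hi, hk, e1, par_hf] at hv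
    · simp [par3, bit, hi, hk, e1, map_sub, par_hf, par_two] at hv
    · rcases cjg_j hN hi hk with ⟨-, h | h⟩ | ⟨h, -⟩
      · exact ⟨_, Or.inl rfl, (hvc.trans (D.isConj_of_cjg h)).symm⟩
      · exact ⟨_, Or.inr rfl, (hvc.trans (D.isConj_of_cjg h)).symm⟩
      · exfalso
        simp [par3, bit, hi, hk, h] at hv
        revert hv; decide
  obtain ⟨w, hwc, hwe, hww, hrr⟩ : ∃ w : Elt N, Comm w r ∧ w.mul eE = zE.mul (eE.mul w) ∧
      w.mul w = zE ∧ (r.i = true ∧ r.k = true) := by
    rcases hr with rfl | rfl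
    · refine ⟨⟨0, 0, true, false⟩, ?_, ?_, ?_, rfl, rfl⟩
      · simp [Comm, Elt.mul, act, ind, jE]
      · simp [Elt.mul, act, ind, eE, zE]; linear_combination -h2
      · simp [Elt.mul, act, ind, zE]
    · refine ⟨⟨1, 0, true, false⟩, ?_, ?_, ?_, rfl, rfl⟩
      · simp [Comm, Elt.mul, act, ind, jxE]
      · simp [Elt.mul, act, ind, eE, zE]; linear_combination -h2
      · simp [Elt.mul, act, ind, zE]
  have hec : Comm (eE : Elt N) r := by
    rcases hr with rfl | rfl <;> simp [Comm, Elt.mul, act, ind, eE, jE, jxE] <;> linear_combination h2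
  -- move the centraliser
  obtain ⟨g₀, hg₀⟩ := isConj_iff.1 hrc
  obtain ⟨h₁, hh₁, hh₁S⟩ := D.k1_extremal hN hN4 hne he
    (K := (D.CS r).map (MulAut.conj g₀).toMonoidHom) ((D.CS_isPGroup r).map _) (by
      rintro _ ⟨k, hk, rfl⟩
      show g₀ * k * g₀⁻¹ * D.P k1E = D.P k1E * (g₀ * k * g₀⁻¹)
      rw [← hg₀, show g₀ * k * g₀⁻¹ * (g₀ * D.P r * g₀⁻¹) = g₀ * (k * D.P r) * g₀⁻¹ by group,
        D.CS_comm hk]
      group)
  set h := h₁ * g₀ with hh
  set φ := (MulAut.conj h).toMonoidHom with hφ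
  have hφk : φ (D.P r) = D.P k1E := by
    show h * D.P r * h⁻¹ = _
    rw [hh, show h₁ * g₀ * D.P r * (h₁ * g₀)⁻¹ = h₁ * (g₀ * D.P r * g₀⁻¹) * h₁⁻¹ by group, hg₀, hh₁]
  have himg : ∀ {p : Elt N}, Comm p r → ∃ p' : Elt N, Comm p' k1E ∧ D.P p' = φ (D.P p) := by
    intro p hp
    refine D.exists_CS ?_
    show h * D.P p * h⁻¹ ∈ _
    rw [hh, show h₁ * g₀ * D.P p * (h₁ * g₀)⁻¹ = h₁ * (g₀ * D.P p * g₀⁻¹) * h₁⁻¹ by group]
    exact hh₁S _ ⟨_, D.mem_CS hp, rfl⟩
  obtain ⟨u, hu, hu'⟩ := himg hec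
  obtain ⟨v, hv, hv'⟩ := himg hwc
  have hzo := D.order_zE hN
  have hinjφ : Function.Injective φ := (MulAut.conj h).injective
  have hvv : D.P (v.mul v) = φ (D.P zE) := by
    rw [D.map_mul, hv', ← _root_.map_mul, ← D.map_mul, hww]
  have hv1 : v.mul v ≠ Elt.one := fun e => by
    rw [e, D.map_one, eq_comm, map_eq_one_iff φ hinjφ, ← orderOf_eq_one_iff, hzo] at hvv
    omega
  have hv4 : (v.mul v).mul (v.mul v) = Elt.one := D.inj (by
    rw [D.map_mul, hvv, D.map_one, ← _root_.map_mul, ← pow_two]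
    nth_rw 1 [← hzo]
    rw [pow_orderOf_eq_one, _root_.map_one])
  obtain ⟨hvz, hg4⟩ := order_four_cases hN hv hv1 hv4
  have hz1 : φ (D.P zE) = D.P zE := by rw [← hvv, hvz]
  have huk : u.k = true := by
    rw [← Bool.not_eq_false]
    intro huk
    have hvk : v.k = false := Bool.eq_false_iff.2 fun e => hv1 (sq_of_high hN hv e)
    have hc := (D.comm_iff u v).1 (comm_of_low hN hu hv huk hvk)
    rw [hu', hv', ← _root_.map_mul, ← _root_.map_mul, hinjφ.eq_iff] at hc
    have e := congrArg D.P hwe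
    rw [D.map_mul, D.map_mul, D.map_mul, ← hc] at e
    replace e := mul_eq_right.1 e.symm
    rw [e, orderOf_one] at hzo
    omega
  set g4 : Elt N := ⟨qt N, hf N, false, false⟩ with hg4d
  obtain ⟨m, hm, hm'⟩ : ∃ m : Elt N, Comm m r ∧ φ (D.P m) = D.P g4 := by
    have cm : ∀ {p p' : Elt N}, Comm p r → Comm p' r → Comm (p.mul p') r := fun {p p'} hp hp' => by
      rw [D.comm_iff] at hp hp' ⊢
      rw [D.map_mul, mul_assoc, hp', ← mul_assoc, hp, mul_assoc]
    have hzr : Comm (zE : Elt N) r := (comm_zE hN r).symm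
    rcases hg4 with e | e | e | e <;> rw [e]
    · exact ⟨w, hwc, hv'.symm⟩
    · exact ⟨w.mul zE, cm hwc hzr, by rw [D.map_mul, _root_.map_mul, ← hv', hz1, D.map_mul]⟩
    · exact ⟨w.mul r, cm hwc rfl, by rw [D.map_mul, _root_.map_mul, ← hv', hφk, D.map_mul]⟩
    · exact ⟨(w.mul zE).mul r, cm (cm hwc hzr) rfl, by
        simp only [D.map_mul, _root_.map_mul, ← hv', hz1, hφk]⟩
  obtain ⟨s, hs⟩ := par_qt hN h8
  set c : Elt N := ⟨s, -2 * s, false, false⟩ with hc
  have hcu : c.mul u = g4.mul (u.mul c) := by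
    obtain ⟨a, b, i, k⟩ := u
    subst huk
    have hq := two_qt hN
    cases i <;> simp [hc, hg4d, Elt.mul, act, ind] <;> (try constructor) <;>
      first
        | ring1
        | linear_combination hs
        | linear_combination -hs
        | linear_combination 2 * hs + hq + h2
        | linear_combination -2 * hs - hq - h2
  set t := h⁻¹ * D.P c * h with ht
  have hconj : t * D.P eE * t⁻¹ = D.P (m.mul eE) := by
    have e1 : D.P c * D.P u * (D.P c)⁻¹ = D.P g4 * D.P u := by
      rw [mul_inv_eq_iff_eq_mul, ← D.map_mul, ← D.map_mul, ← D.map_mul, hcu]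
      simp only [D.map_mul, mul_assoc]
    have e2 : φ (t * D.P eE * t⁻¹) = D.P c * φ (D.P eE) * (D.P c)⁻¹ := by
      show h * (t * D.P eE * t⁻¹) * h⁻¹ = D.P c * (h * D.P eE * h⁻¹) * (D.P c)⁻¹
      rw [ht]
      group
    refine hinjφ ?_
    rw [e2, ← hu', e1, hu', ← hm', ← _root_.map_mul, D.map_mul]
  have hcj : IsConj (D.P eE) (D.P (m.mul eE)) := isConj_iff.2 ⟨t, hconj⟩
  have hmo : orderOf (D.P (m.mul eE)) = 2 := (orderOf_eq_of_isConj hcj).symm.trans
    ((orderOf_eq_of_isConj he).trans hzo)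
  have hm2 : m.mul m ≠ Elt.one := fun e => by
    have e' := congrArg (fun p => φ (D.P p)) e
    simp only [D.map_mul, _root_.map_mul, hm', D.map_one, _root_.map_one] at e'
    rw [← D.map_mul, ← D.map_one, D.inj.eq_iff] at e'
    simp [hg4d, Elt.mul, Elt.one, act, ind] at e'
    exact hf_ne hN (by linear_combination e'.1 - two_qt hN)
  have hmik : m.i ≠ m.k := fun e => by
    rw [show r = ⟨r.a, r.b, true, true⟩ from Elt.ext rfl rfl hrr.1 hrr.2] at hm
    obtain ⟨c1, c2⟩ := comm_inv hm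
    obtain ⟨a, b, i, k⟩ := m
    change i = k at e
    subst e
    refine hm2 ?_
    cases i
    · simp at c1 c2
      simp [Elt.mul, Elt.one, act, ind]
      exact ⟨by linear_combination c2, by linear_combination c1⟩
    · simp [Elt.mul, Elt.one, act, ind]
      linear_combination h2
  have hk1e : IsConj (D.P k1E) (D.P (m.mul eE)) := by
    have hi : (m.mul eE).i = m.i := by simp [Elt.mul, eE]
    have hk : (m.mul eE).k = m.k := by simp [Elt.mul, eE]
    rcases D.exists_kind hN hmo with e | ⟨e1, e2, -, -⟩ | ⟨e1, e2, e3⟩ | ⟨e1, e2, e3⟩ | ⟨e1, e2⟩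
    · exfalso
      rw [e] at hi hk
      exact hmik (hi.symm.trans hk)
    · exact absurd (hi.symm.trans (e1.trans (e2.symm.trans hk))) hmik
    · exact (D.isConj_of_cjg (cjg_k1 e1 e2 e3)).symm
    · exact hk12.trans (D.isConj_of_cjg (cjg_k2 e1 e2 e3)).symm
    · exact absurd (hi.symm.trans (e1.trans (e2.symm.trans hk))) hmik
  exact hne (hk1e.trans (hcj.symm.trans he))

include D in
/-- The classes. -/
theorem main [IsSimpleGroup G] (hcard : 2 < Nat.card G) :
    (∀ x y : G, orderOf x = 2 → orderOf y = 2 → IsConj x y) ∨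
      (N = 4 ∧ ∃ x y : G, orderOf x = 2 ∧ orderOf y = 2 ∧ ¬ IsConj x y ∧
        ∀ z : G, orderOf z = 2 → IsConj z x ∨ IsConj z y) := by
  have he := Setup.e_conj D hN hcard
  have hk1o : orderOf (D.P (k1E : Elt N)) = 2 :=
    D.order_k1 hN
  have hall : ∀ u : Elt N, orderOf (D.P u) = 2 →
      IsConj (D.P u) (D.P zE) ∨ IsConj (D.P u) (D.P k1E) := by
    intro u hu
    have low : ∀ v : Elt N, v.k = false → orderOf (D.P v) = 2 →
        IsConj (D.P v) (D.P zE) ∨ IsConj (D.P v) (D.P k1E) := by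
      intro v hv hvo
      rcases D.exists_kind hN hvo with e | ⟨hi, hk, e1, e2⟩ | ⟨hi, hk, e1⟩ | ⟨hi, hk, e1⟩ | ⟨hi, hk⟩
      · exact Or.inl (e ▸ IsConj.refl _)
      · exact Or.inl ((D.isConj_of_cjg (cjg_e hN hi hk e1 e2)).trans he)
      · exact Or.inr (D.isConj_of_cjg (cjg_k1 hi hk e1))
      · rw [hv] at hk; exact absurd hk Bool.false_ne_true
      · rw [hv] at hk; exact absurd hk Bool.false_ne_true
    by_cases huk : u.k = false
    · exact low u huk hu
    · obtain ⟨v, hv, hvo, hvc⟩ := D.transfer hN hcard (fun u => bit u.k)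
        (fun u v => bit_xor u.k v.k) hu (by simp [bit, Bool.not_eq_false _ ▸ huk])
      have hvk : v.k = false := by
        revert hv; cases v.k <;> simp [bit]
      exact (low v hvk hvo).imp hvc.trans hvc.trans
  have hcover : ∀ x : G, orderOf x = 2 → IsConj x (D.P zE) ∨ IsConj x (D.P k1E) := by
    intro x hx
    have hp : IsPGroup 2 (Subgroup.zpowers x) :=
      IsPGroup.of_card (n := 1) (by rw [Nat.card_zpowers, hx, pow_one])
    obtain ⟨g, -, hg⟩ := exists_conj_into S ⊤ le_top _ hp le_top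
    obtain ⟨u, hu⟩ := D.surj _ (hg x (Subgroup.mem_zpowers x))
    have hc : IsConj x (D.P u) := isConj_iff.2 ⟨g, hu.symm⟩
    exact (hall u ((orderOf_eq_of_isConj hc).symm.trans hx)).imp hc.trans hc.trans
  by_cases hk : IsConj (D.P k1E) (D.P zE)
  · left
    intro x y hx hy
    have hx' : IsConj x (D.P zE) := (hcover x hx).elim id fun h => h.trans hk
    have hy' : IsConj y (D.P zE) := (hcover y hy).elim id fun h => h.trans hk
    exact hx'.trans hy'.symm
  · refine Or.inr ⟨?_, D.P zE, D.P k1E, D.order_zE hN, hk1o, fun h => hk h.symm, hcover⟩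
    by_contra hN'
    refine hk (D.k1_conj hN hcard ?_ he)
    rcases n with _ | m
    · exact absurd (hN.trans (by norm_num)) hN'
    · exact ⟨2 ^ m, by rw [hN, show m + 1 + 2 = 3 + m by omega, pow_add]; norm_num⟩

end Setup

end Cfsg.Agent.G2Fusion
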