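import Mathlib

/-!
The multiplication table of a Sylow 2-subgroup of G₂(q), q odd: a homocyclic group of rank 2 and exponent `N`
extended by a four group, written on quadruples.
-/

set_option autoImplicit false

namespace Cfsg.Agent.G2Fusion

/-- A quadruple. -/
@[ext]
structure Elt (N : ℕ) where
  a : ZMod N
  b : ZMod N
  i : Bool
  k : Bool

variable {N : ℕ}

/-- The action of the four group. -/
def act : Bool → Bool → ZMod N → ZMod N → ZMod N × ZMod N
  | false, false, a, b => (a, b)
  | true, false, a, b => (-a - b, b)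
  | false, true, a, b => (a + b, -b)
  | true, true, a, b => (-a, -b)

/-- Half of the exponent. -/
def hf (N : ℕ) : ZMod N := ((N / 2 : ℕ) : ZMod N)

/-- A quarter of the exponent. -/
def qt (N : ℕ) : ZMod N := ((N / 4 : ℕ) : ZMod N)

/-- `v` or zero. -/
def ind (i : Bool) (v : ZMod N) : ZMod N := if i then v else 0

/-- The product. -/
def Elt.mul (u v : Elt N) : Elt N :=
  ⟨u.a + (act u.i u.k v.a v.b).1 + ind (u.i && v.i) (hf N) + ind (u.k && v.k) (hf N),
    u.b + (act u.i u.k v.a v.b).2, xor u.i v.i, xor u.k v.k⟩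

/-- The neutral element. -/
def Elt.one : Elt N := ⟨0, 0, false, false⟩

/-- The central involution. -/
def zE : Elt N := ⟨hf N, 0, false, false⟩

/-- The other involution of the homocyclic part. -/
def eE : Elt N := ⟨0, hf N, false, false⟩

/-- An involution of the first mixed type. -/
def k1E : Elt N := ⟨0, hf N, true, false⟩

/-- An involution of the second mixed type. -/
def k2E : Elt N := ⟨0, hf N, false, true⟩

/-- An inverting involution. -/
def jE : Elt N := ⟨0, 0, true, true⟩

/-- An inverting involution. -/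
def jxE : Elt N := ⟨1, 0, true, true⟩

/-- An inverting involution. -/
def jeE : Elt N := ⟨0, 1, true, true⟩

/-- Commuting. -/
def Comm (u v : Elt N) : Prop := u.mul v = v.mul u

/-- Conjugate in the group of quadruples. -/
def Cjg (u v : Elt N) : Prop := ∃ w : Elt N, w.mul u = v.mul w

/-- The types of the involutions. -/
inductive Kind (u : Elt N) : Prop
  | z : u = zE → Kind u
  | e : u.i = false → u.k = false → u.b = hf N → 2 * u.a = 0 → Kind u
  | k1 : u.i = true → u.k = false → u.b = hf N → Kind u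
  | k2 : u.i = false → u.k = true → u.b = hf N - 2 * u.a → Kind u
  | j : u.i = true → u.k = true → Kind u

section Arith

variable {n : ℕ} (hN : N = 2 ^ (n + 2))
include hN

theorem four_dvd : 4 ∣ N := hN ▸ Dvd.intro_left (2 ^ n) (by rw [pow_add]; norm_num)

theorem N_pos : 0 < N := hN ▸ pow_pos two_pos _

theorem two_hf : 2 * hf N = 0 := by
  obtain ⟨m, hm⟩ := four_dvd hN
  rw [hf, ← Nat.cast_ofNat, ← Nat.cast_mul, ZMod.natCast_eq_zero_iff, Nat.mul_div_cancel' ⟨2 * m, by omega⟩]

theorem hf_ne : hf N ≠ 0 := by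
  obtain ⟨m, hm⟩ := four_dvd hN
  have h0 := N_pos hN
  rw [hf, Ne, ZMod.natCast_eq_zero_iff]
  intro h
  have := Nat.le_of_dvd (by omega) h
  omega

theorem two_qt : 2 * qt N = hf N := by
  obtain ⟨m, hm⟩ := four_dvd hN
  rw [qt, hf, ← Nat.cast_ofNat, ← Nat.cast_mul]
  congr 1
  omega

theorem two_mul_eq_zero {v : ZMod N} (hv : 2 * v = 0) : v = 0 ∨ v = hf N := by
  have h0 := N_pos hN
  have : NeZero N := ⟨h0.ne'⟩
  obtain ⟨m, hm⟩ := four_dvd hN
  have hlt := ZMod.val_lt v
  rw [← ZMod.natCast_zmod_val v, ← Nat.cast_ofNat, ← Nat.cast_mul, ZMod.natCast_eq_zero_iff] at hv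
  obtain ⟨t, ht⟩ := hv
  rcases t with _ | _ | t
  · left
    rw [← ZMod.natCast_zmod_val v, show v.val = 0 by omega, Nat.cast_zero]
  · right
    rw [hf, ← ZMod.natCast_zmod_val v]
    congr 1
    omega
  · exfalso
    have : N * 2 ≤ N * (t + 1 + 1) := Nat.mul_le_mul_left N (by omega)
    omega

theorem two_mul_eq_hf {v : ZMod N} (hv : 2 * v = hf N) : v = qt N ∨ v = -qt N := by
  have h1 : 2 * (v - qt N) = 0 := by linear_combination hv - two_qt hN
  rcases two_mul_eq_zero hN h1 with e | e
  · exact Or.inl (by linear_combination e)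
  · exact Or.inr (by linear_combination e + two_qt hN + two_hf hN)

/-- The parity. -/
def par : ZMod N →+* ZMod 2 :=
  ZMod.castHom (hN ▸ dvd_pow_self 2 (Nat.succ_ne_zero (n + 1))) (ZMod 2)

theorem par_natCast (m : ℕ) : par hN (m : ZMod N) = (m : ZMod 2) := map_natCast _ _

theorem par_two (v : ZMod N) : par hN (2 * v) = 0 := by
  rw [map_mul, map_ofNat, show (2 : ZMod 2) = 0 by decide, zero_mul]

theorem par_hf : par hN (hf N) = 0 := by rw [← two_qt hN, par_two hN]

theorem par_qt (h8 : 8 ∣ N) : ∃ r : ZMod N, 2 * r = qt N := by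
  obtain ⟨m, hm⟩ := h8
  refine ⟨(m : ZMod N), ?_⟩
  rw [qt, ← Nat.cast_ofNat, ← Nat.cast_mul]
  congr 1
  omega

theorem exists_half {v : ZMod N} (hv : par hN v = 0) : ∃ m, v = 2 * m := by
  have : NeZero N := ⟨(N_pos hN).ne'⟩
  rw [← ZMod.natCast_zmod_val v, par_natCast, ZMod.natCast_eq_zero_iff] at hv
  obtain ⟨m, hm⟩ := hv
  exact ⟨(m : ZMod N), by rw [← ZMod.natCast_zmod_val v, hm, Nat.cast_mul]; norm_num⟩

theorem half_or (v : ZMod N) : ∃ m, v = 2 * m ∨ v = 2 * m + 1 := by
  have key : ∀ w : ZMod 2, w = 0 ∨ w = 1 := by decide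
  rcases key (par hN v) with e | e
  · obtain ⟨m, hm⟩ := exists_half hN e
    exact ⟨m, Or.inl hm⟩
  · obtain ⟨m, hm⟩ := exists_half hN (v := v - 1) (by rw [map_sub, e, map_one, sub_self])
    exact ⟨m, Or.inr (by linear_combination hm)⟩

theorem kind_of_invol {u : Elt N} (h : u.mul u = Elt.one) (hne : u ≠ Elt.one) : Kind u := by
  obtain ⟨a, b, i, k⟩ := u
  rw [Elt.mul, Elt.one, Elt.mk.injEq] at h
  obtain ⟨ha, hb, -, -⟩ := h
  have h2 := two_hf hN
  cases i <;> cases k <;> simp [act, ind] at ha hb
  · rcases two_mul_eq_zero hN (show 2 * b = 0 by linear_combination hb) with rfl | rfl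
    · rcases two_mul_eq_zero hN (show 2 * a = 0 by linear_combination ha) with rfl | rfl
      · exact absurd rfl hne
      · exact Kind.z rfl
    · exact Kind.e rfl rfl rfl (by linear_combination ha)
  · exact Kind.k2 rfl rfl (show b = hf N - 2 * a by linear_combination ha - h2)
  · exact Kind.k1 rfl rfl (show b = hf N by linear_combination -ha)
  · exact Kind.j rfl rfl

theorem cjg_e {u : Elt N} (hi : u.i = false) (hk : u.k = false) (hb : u.b = hf N) (ha : 2 * u.a = 0) :
    Cjg u eE := by
  obtain ⟨a, b, i, k⟩ := u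
  subst hi hk hb
  rcases two_mul_eq_zero hN ha with rfl | rfl
  · exact ⟨Elt.one, by simp [Elt.one, Elt.mul, act, ind, eE]⟩
  · exact ⟨⟨0, 0, true, false⟩, by
      simp [Elt.mul, act, ind, eE]; linear_combination -two_hf hN⟩

omit hN in
theorem cjg_k1 {u : Elt N} (hi : u.i = true) (hk : u.k = false) (hb : u.b = hf N) : Cjg u k1E := by
  obtain ⟨a, b, i, k⟩ := u
  subst hi hk hb
  refine ⟨⟨0, -a, false, false⟩, ?_⟩
  simp [Elt.mul, act, ind, k1E]
  ring

omit hN in
theorem cjg_k2 {u : Elt N} (hi : u.i = false) (hk : u.k = true) (hb : u.b = hf N - 2 * u.a) :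
    Cjg u k2E := by
  obtain ⟨a, b, i, k⟩ := u
  subst hi hk
  change b = hf N - 2 * a at hb
  subst hb
  refine ⟨⟨0, a, false, false⟩, ?_⟩
  simp [Elt.mul, act, ind, k2E]
  ring

theorem cjg_j {u : Elt N} (hi : u.i = true) (hk : u.k = true) :
    (par hN u.b = 0 ∧ (Cjg u jE ∨ Cjg u jxE)) ∨ (par hN u.b = 1 ∧ Cjg u jeE) := by
  obtain ⟨a, b, i, k⟩ := u
  subst hi hk
  obtain ⟨m, hm⟩ := half_or hN a
  obtain ⟨l, hl | hl⟩ := half_or hN b
  · subst hl
    refine Or.inl ⟨par_two hN l, ?_⟩
    rcases hm with rfl | rfl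
    · exact Or.inl ⟨⟨-m, -l, false, false⟩, by simp [Elt.mul, act, ind, jE]; constructor <;> ring⟩
    · exact Or.inr ⟨⟨-m, -l, false, false⟩, by simp [Elt.mul, act, ind, jxE]; constructor <;> ring⟩
  · subst hl
    refine Or.inr ⟨by show par hN (2 * l + 1) = 1; rw [map_add, par_two, map_one, zero_add], ?_⟩
    rcases hm with rfl | rfl
    · exact ⟨⟨-m, -l, false, false⟩, by simp [Elt.mul, act, ind, jeE]; constructor <;> ring⟩
    · refine ⟨⟨m + l + 1, -l, true, false⟩, ?_⟩
      simp [Elt.mul, act, ind, jeE]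
      constructor <;> ring

omit hN in
theorem commutator_low {u v : Elt N} {w : Elt N} (h : u.mul v = w.mul (v.mul u)) :
    w.i = false ∧ w.k = false := by
  have hi := congrArg Elt.i h
  have hk := congrArg Elt.k h
  simp [Elt.mul] at hi hk
  revert hi hk
  cases u.i <;> cases u.k <;> cases v.i <;> cases v.k <;> cases w.i <;> cases w.k <;> simp

theorem comm_k1 {u : Elt N} : Comm u k1E ↔ u.b = -2 * u.a - ind (xor u.i u.k) (hf N) := by
  obtain ⟨a, b, i, k⟩ := u
  have h2 := two_hf hN
  refine ⟨fun h => ?_, fun h => ?_⟩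
  · have hA := congrArg Elt.a h
    cases i <;> cases k <;> simp [Elt.mul, act, ind, k1E] at hA ⊢ <;>
      first
        | linear_combination hA
        | linear_combination hA + h2
  · cases i <;> cases k <;> simp [ind] at h <;> subst h <;>
      simp [Comm, Elt.mul, act, ind, k1E] <;> (try constructor) <;>
      first
        | ring1
        | linear_combination h2
        | linear_combination -h2

theorem comm_k2 {u : Elt N} : Comm u k2E ↔ u.b = ind (xor u.i u.k) (hf N) := by
  obtain ⟨a, b, i, k⟩ := u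
  have h2 := two_hf hN
  refine ⟨fun h => ?_, fun h => ?_⟩
  · have hA := congrArg Elt.a h
    cases i <;> cases k <;> simp [Elt.mul, act, ind, k2E] at hA ⊢ <;>
      first
        | linear_combination hA
        | linear_combination -hA
        | linear_combination hA + h2
        | linear_combination hA - h2
        | linear_combination -hA + h2
        | linear_combination -hA - h2
  · cases i <;> cases k <;> simp [ind] at h <;> subst h <;>
      simp [Comm, Elt.mul, act, ind, k2E] <;> (try constructor) <;>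
      first
        | ring1
        | linear_combination h2
        | linear_combination -h2

omit hN in
theorem comm_inv {u : Elt N} {a₀ b₀ : ZMod N} (h : Comm u ⟨a₀, b₀, true, true⟩) :
    2 * u.b = (if u.k then 2 * b₀ else 0) ∧
      2 * u.a = (if u.i then 2 * a₀ else 0) + (if xor u.i u.k then (if u.i then b₀ else -b₀) else 0) := by
  obtain ⟨a, b, i, k⟩ := u
  cases i <;> cases k <;> simp [Comm, Elt.mul, act, ind] at h ⊢ <;>
    exact ⟨by linear_combination h.2, by linear_combination h.1⟩

theorem comm_zE (u : Elt N) : Comm u zE := by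
  obtain ⟨a, b, i, k⟩ := u
  have h2 := two_hf hN
  cases i <;> cases k <;> simp [Comm, Elt.mul, act, ind, zE] <;>
    first
      | ring1
      | linear_combination h2
      | linear_combination -h2

end Arith

end Cfsg.Agent.G2Fusion
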