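import Cfsg.Agent.G2Fusion.Elt
import Cfsg.Agent.Invol.ZStar
import Cfsg.Agent.TwoTransfer.Basic
import Cfsg.Prelude.Def_TwoFusion
import Mathlib

/-!
Fusion of involutions in a simple group with a Sylow 2-subgroup of the type of G₂(q), q odd.
-/

set_option autoImplicit false
set_option maxHeartbeats 1000000

namespace Cfsg.Agent.G2Fusion

variable {G : Type*} [Group G]

/-- If `H` contains the Sylow subgroup `S`, every 2-subgroup of `H` is conjugate in `H` into `S`. -/
theorem exists_conj_into [Finite G] (S : Sylow 2 G) (H : Subgroup G) (hSH : (S : Subgroup G) ≤ H)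
    (K : Subgroup G) (hK : IsPGroup 2 K) (hKH : K ≤ H) :
    ∃ h ∈ H, ∀ k ∈ K, h * k * h⁻¹ ∈ (S : Subgroup G) := by
  have : Fact (Nat.Prime 2) := ⟨Nat.prime_two⟩
  obtain ⟨Q, hQ⟩ := (hK.comap_of_injective H.subtype H.subtype_injective).exists_le_sylow
  obtain ⟨h, hh⟩ := MulAction.exists_smul_eq H Q (S.subtype hSH)
  refine ⟨h, h.2, fun k hk => ?_⟩
  have h1 : MulAut.conj h • (⟨k, hKH hk⟩ : H) ∈ ((h • Q : Sylow 2 H) : Subgroup H) := by
    rw [Sylow.coe_subgroup_smul]
    exact Subgroup.smul_mem_pointwise_smul _ _ _ (hQ hk)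
  rw [hh] at h1
  exact h1

/-- A Sylow 2-subgroup with the multiplication table of `Elt N`. -/
structure Setup (S : Sylow 2 G) (N : ℕ) where
  P : Elt N → G
  mem : ∀ u, P u ∈ (S : Subgroup G)
  surj : ∀ s ∈ (S : Subgroup G), ∃ u, P u = s
  inj : Function.Injective P
  map_mul : ∀ u v, P (u.mul v) = P u * P v

theorem xor_add_one : ∀ a : ZMod 2, Xor (a + 1 = 0) (a = 0) := by
  unfold Xor
  decide

namespace Setup

variable {S : Sylow 2 G} {N n : ℕ} (D : Setup S N) (hN : N = 2 ^ (n + 2))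

theorem map_one : D.P Elt.one = 1 := by
  have h : (Elt.one : Elt N).mul Elt.one = Elt.one := by
    simp [Elt.mul, Elt.one, act, ind]
  exact mul_left_cancel (a := D.P Elt.one) (by rw [← D.map_mul, h, mul_one])

theorem comm_iff (u v : Elt N) : Comm u v ↔ D.P u * D.P v = D.P v * D.P u := by
  rw [← D.map_mul, ← D.map_mul, D.inj.eq_iff, Comm]

theorem isConj_of_cjg {u v : Elt N} (h : Cjg u v) : IsConj (D.P u) (D.P v) := by
  obtain ⟨w, hw⟩ := h
  refine isConj_iff.2 ⟨D.P w, ?_⟩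
  rw [mul_inv_eq_iff_eq_mul, ← D.map_mul, ← D.map_mul, hw]

theorem sq_one {u : Elt N} (h : orderOf (D.P u) = 2) : u.mul u = Elt.one ∧ u ≠ Elt.one := by
  refine ⟨D.inj ?_, fun e => ?_⟩
  · rw [D.map_mul, D.map_one, ← pow_two, ← h, pow_orderOf_eq_one]
  · rw [e, D.map_one, orderOf_one] at h
    omega

theorem order_two {u : Elt N} (h : u.mul u = Elt.one) (hne : u ≠ Elt.one) : orderOf (D.P u) = 2 :=
  orderOf_eq_prime (by rw [pow_two, ← D.map_mul, h, D.map_one])
    fun e => hne (D.inj (e.trans D.map_one.symm))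

theorem orderOf_eq_of_isConj {x y : G} (h : IsConj x y) : orderOf x = orderOf y := by
  obtain ⟨c, rfl⟩ := isConj_iff.1 h
  exact (MulEquiv.orderOf_eq (MulAut.conj c) x).symm

include hN in
theorem exists_kind {u : Elt N} (h : orderOf (D.P u) = 2) : Kind u :=
  kind_of_invol hN (D.sq_one h).1 (D.sq_one h).2

include hN in
theorem order_zE : orderOf (D.P zE) = 2 :=
  D.order_two (by simp [Elt.mul, Elt.one, act, ind, zE, ← two_mul, two_hf hN])
    (by simp [Elt.one, zE, hf_ne hN])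

include hN in
theorem S_le_centralizer : (S : Subgroup G) ≤ Subgroup.centralizer {D.P zE} := by
  intro s hs
  obtain ⟨u, rfl⟩ := D.surj s hs
  exact Subgroup.mem_centralizer_singleton_iff.2 ((D.comm_iff u zE).1 (comm_zE hN u))

/-- Conjugation of a subgroup by an element sending `x` to an element centralising `S`. -/
theorem exists_move [Finite G] {y z : G} (hS : (S : Subgroup G) ≤ Subgroup.centralizer {z})
    (hy : IsConj y z) {K : Subgroup G} (hK : IsPGroup 2 K) (hKc : ∀ k ∈ K, k * y = y * k) :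
    ∃ g : G, g * y * g⁻¹ = z ∧ ∀ k ∈ K, g * k * g⁻¹ ∈ (S : Subgroup G) := by
  obtain ⟨g₀, hg₀⟩ := isConj_iff.1 hy
  have hle : K.map (MulAut.conj g₀).toMonoidHom ≤ Subgroup.centralizer {z} := by
    rintro _ ⟨k, hk, rfl⟩
    rw [Subgroup.mem_centralizer_singleton_iff, ← hg₀]
    show g₀ * k * g₀⁻¹ * (g₀ * y * g₀⁻¹) = g₀ * y * g₀⁻¹ * (g₀ * k * g₀⁻¹)
    calc g₀ * k * g₀⁻¹ * (g₀ * y * g₀⁻¹) = g₀ * (k * y) * g₀⁻¹ := by group
      _ = _ := by rw [hKc k hk]; group
  obtain ⟨h, hh, hhk⟩ := exists_conj_into S _ hS _ (hK.map _) hle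
  refine ⟨h * g₀, ?_, fun k hk => ?_⟩
  · rw [show h * g₀ * y * (h * g₀)⁻¹ = h * (g₀ * y * g₀⁻¹) * h⁻¹ by group, hg₀,
      Subgroup.mem_centralizer_singleton_iff.1 hh, mul_inv_cancel_right]
  · have := hhk _ (Subgroup.mem_map_of_mem _ hk)
    simp only [MulEquiv.toMonoidHom_eq_coe, MonoidHom.coe_coe, MulAut.conj_apply] at this
    rwa [show h * g₀ * k * (h * g₀)⁻¹ = h * (g₀ * k * g₀⁻¹) * h⁻¹ by group]

/-- The centraliser in `S`. -/
def CS (r : Elt N) : Subgroup G := (S : Subgroup G) ⊓ Subgroup.centralizer {D.P r}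

theorem mem_CS {r u : Elt N} (h : Comm u r) : D.P u ∈ D.CS r :=
  ⟨D.mem u, Subgroup.mem_centralizer_singleton_iff.2 ((D.comm_iff u r).1 h)⟩

theorem CS_comm {r : Elt N} {k : G} (hk : k ∈ D.CS r) : k * D.P r = D.P r * k :=
  Subgroup.mem_centralizer_singleton_iff.1 hk.2

theorem CS_isPGroup (r : Elt N) : IsPGroup 2 (D.CS r) := S.isPGroup'.to_le inf_le_left

theorem exists_CS {r : Elt N} {k : G} (hk : k ∈ D.CS r) : ∃ u, Comm u r ∧ D.P u = k := by
  obtain ⟨u, rfl⟩ := D.surj k hk.1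
  exact ⟨u, (D.comm_iff u r).2 (D.CS_comm hk), rfl⟩

include hN

/-- An involution whose centraliser has the central involution as a commutator is conjugate to the
central one only if the latter is not isolated in `S`. -/
theorem e_conj_of_commutator [Finite G] {r u v : Elt N} (hu : Comm u r) (hv : Comm v r)
    (huv : u.mul v = zE.mul (v.mul u)) (hr : r ≠ zE) (hc : IsConj (D.P r) (D.P zE)) :
    IsConj (D.P eE) (D.P zE) := by
  obtain ⟨g, hg, hgS⟩ := exists_move (D.S_le_centralizer hN) hc (D.CS_isPGroup r)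
    fun k hk => D.CS_comm hk
  have hz : Comm (zE : Elt N) r := (comm_zE hN r).symm
  obtain ⟨u', hu'⟩ := D.surj _ (hgS _ (D.mem_CS hu))
  obtain ⟨v', hv'⟩ := D.surj _ (hgS _ (D.mem_CS hv))
  obtain ⟨w, hw⟩ := D.surj _ (hgS _ (D.mem_CS hz))
  have he : u'.mul v' = w.mul (v'.mul u') := D.inj (by
    simp only [D.map_mul, hu', hv', hw]
    have e := congrArg (fun t => g * D.P t * g⁻¹) huv
    simp only [D.map_mul] at e
    calc g * D.P u * g⁻¹ * (g * D.P v * g⁻¹) = g * (D.P u * D.P v) * g⁻¹ := by group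
      _ = _ := by rw [e]; group)
  obtain ⟨hwi, hwk⟩ := commutator_low he
  have hwc : IsConj (D.P zE) (D.P w) := isConj_iff.2 ⟨g, hw.symm⟩
  have hw2 : orderOf (D.P w) = 2 := (orderOf_eq_of_isConj hwc).symm.trans (D.order_zE hN)
  rcases D.exists_kind hN hw2 with e | ⟨-, -, e1, e2⟩ | ⟨e, -, -⟩ | ⟨-, e, -⟩ | ⟨e, -⟩
  · exfalso
    refine hr (D.inj ?_)
    have h1 : g * D.P zE * g⁻¹ = D.P zE := by rw [← hw, e]
    have h2 : g * D.P r * g⁻¹ = g * D.P zE * g⁻¹ := hg.trans h1.symm
    exact mul_left_cancel (mul_right_cancel h2)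
  · exact (D.isConj_of_cjg (cjg_e hN hwi hwk e1 e2)).symm.trans hwc.symm
  · rw [hwi] at e; exact absurd e Bool.false_ne_true
  · rw [hwk] at e; exact absurd e Bool.false_ne_true
  · rw [hwi] at e; exact absurd e Bool.false_ne_true

/-- The first four classes. -/
theorem e_conj_of_class [Finite G] {r : Elt N} (hr : r = k1E ∨ r = k2E ∨ r = jE ∨ r = jxE)
    (hc : IsConj (D.P r) (D.P zE)) : IsConj (D.P eE) (D.P zE) := by
  have h2 := two_hf hN
  have hq := two_qt hN
  rcases hr with rfl | rfl | rfl | rfl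
  · refine D.e_conj_of_commutator hN (u := ⟨0, hf N, false, true⟩) (v := ⟨qt N, hf N, false, false⟩)
      ((comm_k1 hN).2 ?_) ((comm_k1 hN).2 ?_) ?_ (by simp [k1E, zE]) hc
    · simp [ind]; linear_combination h2
    · simp [ind]; linear_combination h2 + hq
    · simp [Elt.mul, act, ind, zE]; constructor <;>
        first | ring1 | linear_combination h2 | linear_combination -h2
  · refine D.e_conj_of_commutator hN (u := ⟨0, hf N, true, false⟩) (v := ⟨qt N, 0, false, false⟩)
      ((comm_k2 hN).2 ?_) ((comm_k2 hN).2 ?_) ?_ (by simp [k2E, zE]) hc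
    · simp [ind]
    · simp [ind]
    · simp [Elt.mul, act, ind, zE]; linear_combination -hq - h2
  · refine D.e_conj_of_commutator hN (u := ⟨0, 0, true, false⟩) (v := eE) ?_ ?_ ?_
      (by simp [jE, zE]) hc
    · simp [Comm, Elt.mul, act, ind, jE]
    · simp [Comm, Elt.mul, act, ind, jE, eE]; linear_combination h2
    · simp [Elt.mul, act, ind, eE, zE]; linear_combination -h2
  · refine D.e_conj_of_commutator hN (u := ⟨1, 0, true, false⟩) (v := eE) ?_ ?_ ?_
      (by simp [jxE, zE]) hc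
    · simp [Comm, Elt.mul, act, ind, jxE]
    · simp [Comm, Elt.mul, act, ind, jxE, eE]; linear_combination h2
    · simp [Elt.mul, act, ind, eE, zE]; linear_combination -h2

theorem e_conj_of_je [Finite G] (hc : IsConj (D.P jeE) (D.P zE)) :
    IsConj (D.P eE) (D.P zE) := by
  by_contra he
  have h2 := two_hf hN
  obtain ⟨g, hg, hgS⟩ := exists_move (D.S_le_centralizer hN) hc (D.CS_isPGroup jeE)
    fun k hk => D.CS_comm hk
  have hz : Comm (zE : Elt N) jeE := (comm_zE hN jeE).symm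
  have hee : Comm (eE : Elt N) jeE := by simp [Comm, Elt.mul, act, ind, jeE, eE]; linear_combination h2
  have hee' : Comm ((eE : Elt N).mul zE) jeE := by
    simp [Comm, Elt.mul, act, ind, jeE, eE, zE]
    constructor <;> linear_combination h2
  obtain ⟨w, hw⟩ := D.surj _ (hgS _ (D.mem_CS hz))
  obtain ⟨t, ht⟩ := D.surj _ (hgS _ (D.mem_CS hee))
  obtain ⟨t', ht'⟩ := D.surj _ (hgS _ (D.mem_CS hee'))
  have hwc : IsConj (D.P zE) (D.P w) := isConj_iff.2 ⟨g, hw.symm⟩
  have hwne : w ≠ zE := fun e => by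
    have h1 : g * D.P zE * g⁻¹ = D.P zE := by rw [← hw, e]
    have h3 : g * D.P jeE * g⁻¹ = g * D.P zE * g⁻¹ := hg.trans h1.symm
    simpa [jeE, zE] using D.inj (mul_left_cancel (mul_right_cancel h3))
  have hj : ∀ {u : Elt N}, IsConj (D.P zE) (D.P u) → u.i = true → u.k = true →
      par hN u.b = 1 := by
    intro u hu hi hk
    rcases cjg_j hN hi hk with ⟨-, h | h⟩ | ⟨h, -⟩
    · exact absurd (D.e_conj_of_class hN (Or.inr (Or.inr (Or.inl rfl)))
        ((D.isConj_of_cjg h).symm.trans hu.symm)) he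
    · exact absurd (D.e_conj_of_class hN (Or.inr (Or.inr (Or.inr rfl)))
        ((D.isConj_of_cjg h).symm.trans hu.symm)) he
    · exact h
  obtain ⟨hwi, hwk, hwb⟩ : w.i = true ∧ w.k = true ∧ par hN w.b = 1 := by
    rcases D.exists_kind hN ((orderOf_eq_of_isConj hwc).symm.trans (D.order_zE hN)) with
      e | ⟨hi, hk, e1, e2⟩ | ⟨hi, hk, e1⟩ | ⟨hi, hk, e1⟩ | ⟨hi, hk⟩
    · exact absurd e hwne
    · exact absurd ((D.isConj_of_cjg (cjg_e hN hi hk e1 e2)).symm.trans hwc.symm) he
    · exact absurd (D.e_conj_of_class hN (Or.inl rfl)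
        ((D.isConj_of_cjg (cjg_k1 hi hk e1)).symm.trans hwc.symm)) he
    · exact absurd (D.e_conj_of_class hN (Or.inr (Or.inl rfl))
        ((D.isConj_of_cjg (cjg_k2 hi hk e1)).symm.trans hwc.symm)) he
    · exact ⟨hi, hk, hj hwc hi hk⟩
  have hec : IsConj (D.P eE) (D.P (eE.mul zE)) := by
    refine (D.isConj_of_cjg (cjg_e hN (u := eE.mul zE) rfl rfl ?_ ?_)).symm <;>
      simp [Elt.mul, act, ind, eE, zE]
    linear_combination h2
  have low : ∀ {u : Elt N}, IsConj (D.P eE) (D.P u) → Comm u w →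
      u.i = false ∧ u.k = false ∧ u.b = hf N ∧ 2 * u.a = 0 := by
    intro u hu hcomm
    have hw' : w = ⟨w.a, w.b, true, true⟩ := Elt.ext rfl rfl hwi hwk
    rw [hw'] at hcomm
    obtain ⟨c1, c2⟩ := comm_inv hcomm
    have hsq : orderOf (D.P u) = 2 := (orderOf_eq_of_isConj hu).symm.trans
      (D.order_two (by simp [Elt.mul, Elt.one, act, ind, eE, ← two_mul, h2])
        (by simp [Elt.one, eE, hf_ne hN]))
    rcases D.exists_kind hN hsq with e | ⟨hi, hk, e1, e2⟩ | ⟨hi, hk, -⟩ | ⟨hi, hk, -⟩ | ⟨hi, hk⟩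
    · exact absurd (e ▸ hu) he
    · exact ⟨hi, hk, e1, e2⟩
    · exfalso
      simp [hi, hk] at c2
      have := congrArg (par hN) c2
      rw [map_add, par_two, par_two, hwb, zero_add] at this
      exact zero_ne_one this
    · exfalso
      simp [hi, hk] at c2
      have := congrArg (par hN) c2
      rw [map_neg, par_two, hwb] at this
      exact absurd this (by decide)
    · exfalso
      have hb : par hN u.b = 1 := by
        simp [hk] at c1
        rcases two_mul_eq_zero hN (show 2 * (u.b - w.b) = 0 by linear_combination c1) with e | e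
        · rw [sub_eq_zero.1 e, hwb]
        · rw [show u.b = hf N + w.b by linear_combination e, map_add, par_hf, hwb, zero_add]
      rcases cjg_j hN hi hk with ⟨e, -⟩ | ⟨-, e⟩
      · rw [hb] at e; exact one_ne_zero e
      · exact he ((hu.trans (D.isConj_of_cjg e)).trans hc)
  have hcw : ∀ {x u : Elt N}, D.P u = g * D.P x * g⁻¹ → Comm u w := fun {x u} hu => by
    rw [D.comm_iff, hu, hw]
    calc g * D.P x * g⁻¹ * (g * D.P zE * g⁻¹) = g * (D.P x * D.P zE) * g⁻¹ := by group
      _ = _ := by rw [(D.comm_iff x zE).1 (comm_zE hN x)]; group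
  obtain ⟨ti, tk, tb, ta⟩ := low (isConj_iff.2 ⟨g, ht.symm⟩) (hcw ht)
  obtain ⟨si, sk, sb, sa⟩ := low (hec.trans (isConj_iff.2 ⟨g, ht'.symm⟩)) (hcw ht')
  have hne : t.a ≠ t'.a := fun e => by
    have e' : t = t' := Elt.ext e (tb.trans sb.symm) (ti.trans si.symm) (tk.trans sk.symm)
    rw [← D.inj.eq_iff, ht, ht'] at e'
    have h3 := congrArg Elt.a (D.inj (mul_left_cancel (mul_right_cancel e')))
    simp [Elt.mul, act, ind, eE, zE] at h3
    exact hf_ne hN h3.symm
  have hsum : t.mul t' = zE := by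
    ext
    · simp [Elt.mul, act, ind, zE, ti, tk]
      rcases two_mul_eq_zero hN ta with e | e <;> rcases two_mul_eq_zero hN sa with e' | e'
      · exact absurd (e.trans e'.symm) hne
      · rw [e, e', zero_add]
      · rw [e, e', add_zero]
      · exact absurd (e.trans e'.symm) hne
    · simp [Elt.mul, act, ind, zE, ti, tk, tb, sb]; linear_combination h2
    · simp [Elt.mul, zE, ti, si]
    · simp [Elt.mul, zE, tk, sk]
  have hez : eE.mul (eE.mul zE) = (zE : Elt N) := by
    ext <;> simp [Elt.mul, act, ind, eE, zE]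
    linear_combination h2
  refine hwne (D.inj ?_)
  rw [← hsum, D.map_mul, ht, ht', hw,
    show g * D.P eE * g⁻¹ * (g * D.P (eE.mul zE) * g⁻¹) = g * (D.P eE * D.P (eE.mul zE)) * g⁻¹ by group,
    ← D.map_mul, hez]

/-- Step 1: `z` is fused to `e`. -/
theorem e_conj [Finite G] [IsSimpleGroup G] (hcard : 2 < Nat.card G) :
    IsConj (D.P eE) (D.P zE) := by
  by_contra he
  have : Fact (Nat.Prime 2) := ⟨Nat.prime_two⟩
  have honly : ∀ u : Elt N, IsConj (D.P u) (D.P zE) → u = zE := by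
    intro u hu
    rcases D.exists_kind hN ((orderOf_eq_of_isConj hu).trans (D.order_zE hN)) with
      e | ⟨hi, hk, e1, e2⟩ | ⟨hi, hk, e1⟩ | ⟨hi, hk, e1⟩ | ⟨hi, hk⟩
    · exact e
    · exact absurd ((D.isConj_of_cjg (cjg_e hN hi hk e1 e2)).symm.trans hu) he
    · exact absurd (D.e_conj_of_class hN (Or.inl rfl)
        ((D.isConj_of_cjg (cjg_k1 hi hk e1)).symm.trans hu)) he
    · exact absurd (D.e_conj_of_class hN (Or.inr (Or.inl rfl))
        ((D.isConj_of_cjg (cjg_k2 hi hk e1)).symm.trans hu)) he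
    · rcases cjg_j hN hi hk with ⟨-, h | h⟩ | ⟨-, h⟩
      · exact absurd (D.e_conj_of_class hN (Or.inr (Or.inr (Or.inl rfl)))
          ((D.isConj_of_cjg h).symm.trans hu)) he
      · exact absurd (D.e_conj_of_class hN (Or.inr (Or.inr (Or.inr rfl)))
          ((D.isConj_of_cjg h).symm.trans hu)) he
      · exact absurd (D.e_conj_of_je hN ((D.isConj_of_cjg h).symm.trans hu)) he
  set z := D.P zE with hz
  have hiso : Cfsg.IsIsolatedInvolution z := by
    refine ⟨D.order_zE hN, fun g hcomm => ?_⟩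
    set c := g * z * g⁻¹ with hc
    have hcz : IsConj c z := (isConj_iff.2 ⟨g, hc.symm⟩).symm
    have hp : IsPGroup 2 (Subgroup.zpowers c) :=
      IsPGroup.of_card (n := 1) (by
        rw [Nat.card_zpowers, orderOf_eq_of_isConj hcz, D.order_zE hN, pow_one])
    have hle : Subgroup.zpowers c ≤ Subgroup.centralizer {z} :=
      Subgroup.zpowers_le.2 (Subgroup.mem_centralizer_singleton_iff.2 hcomm.symm.eq)
    obtain ⟨h, hh, hhS⟩ := exists_conj_into S _ (D.S_le_centralizer hN) _ hp hle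
    obtain ⟨u, hu⟩ := D.surj _ (hhS c (Subgroup.mem_zpowers c))
    have hu' := honly u ((show IsConj (D.P u) c from (isConj_iff.2 ⟨h, hu.symm⟩).symm).trans hcz)
    rw [hu', ← hz] at hu
    have h1 : h * z = z * h := Subgroup.mem_centralizer_singleton_iff.1 hh
    have h2 : h * c = h * z := by
      rw [h1]
      exact (mul_inv_eq_iff_eq_mul.1 hu.symm)
    exact mul_left_cancel h2
  have hO : Cfsg.oddCore G = ⊥ := by
    have : (Cfsg.oddCore G).Normal := by unfold Cfsg.oddCore; infer_instance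
    rcases this.eq_bot_or_eq_top with h | h
    · exact h
    · exfalso
      refine Core.not_dvd_card_pPrimeCore (p := 2) (G := G) ?_
      have h2 := orderOf_dvd_natCard (⟨z, h ▸ Subgroup.mem_top z⟩ : Cfsg.oddCore G)
      rwa [Subgroup.orderOf_mk, D.order_zE hN] at h2
  have hcen : z ∈ Subgroup.center G := by
    refine Subgroup.mem_center_iff.2 fun g => ?_
    have h := Invol.zstar hiso g
    rw [hO, Subgroup.mem_bot, mul_inv_eq_one, mul_inv_eq_iff_eq_mul] at h
    exact h.symm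
  have hzn : (Subgroup.zpowers z).Normal := ⟨fun a ha g => by
    have hac : a ∈ Subgroup.center G := Subgroup.zpowers_le.2 hcen ha
    rw [Subgroup.mem_center_iff.1 hac g, mul_inv_cancel_right]
    exact ha⟩
  have h2 : Nat.card (Subgroup.zpowers z) = 2 := by rw [Nat.card_zpowers, D.order_zE hN]
  rcases hzn.eq_bot_or_eq_top with h | h
  · rw [h, Subgroup.card_bot] at h2; omega
  · rw [h, Subgroup.card_top] at h2; omega

/-- Thompson transfer for a parity on `S`. -/
theorem transfer [Finite G] [IsSimpleGroup G] (hcard : 2 < Nat.card G) (χ : Elt N → ZMod 2)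
    (hχ : ∀ u v, χ (u.mul v) = χ u + χ v) {x : Elt N} (hx : orderOf (D.P x) = 2) (hx1 : χ x = 1) :
    ∃ v : Elt N, χ v = 0 ∧ orderOf (D.P v) = 2 ∧ IsConj (D.P x) (D.P v) := by
  have : Fact (Nat.Prime 2) := ⟨Nat.prime_two⟩
  have h01 : χ Elt.one = 0 := by
    have h := hχ Elt.one Elt.one
    rwa [show (Elt.one : Elt N).mul Elt.one = Elt.one by simp [Elt.mul, Elt.one, act, ind],
      left_eq_add] at h
  let M : Subgroup G :=
    { carrier := {g | ∃ u, χ u = 0 ∧ D.P u = g}
      one_mem' := ⟨Elt.one, h01, D.map_one⟩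
      mul_mem' := by
        rintro _ _ ⟨u, hu, rfl⟩ ⟨v, hv, rfl⟩
        exact ⟨u.mul v, by rw [hχ, hu, hv, add_zero], D.map_mul u v⟩
      inv_mem' := by
        rintro _ ⟨u, hu, rfl⟩
        obtain ⟨v, hv⟩ := D.surj _ (inv_mem (D.mem u))
        refine ⟨v, ?_, hv⟩
        have h : v.mul u = Elt.one := D.inj (by rw [D.map_mul, hv, inv_mul_cancel, D.map_one])
        have h' := hχ v u
        rw [h, h01, hu, add_zero] at h'
        exact h'.symm }
  have hM : ∀ u, D.P u ∈ M ↔ χ u = 0 := fun u =>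
    ⟨fun ⟨v, hv, e⟩ => D.inj e ▸ hv, fun h => ⟨u, h, rfl⟩⟩
  have key := xor_add_one
  have hidx : M.relIndex (S : Subgroup G) = 2 := by
    rw [Subgroup.relIndex, Subgroup.index_eq_two_iff]
    refine ⟨⟨D.P x, D.mem x⟩, fun b => ?_⟩
    obtain ⟨u, hu⟩ := D.surj b b.2
    simp only [Subgroup.mem_subgroupOf, Subgroup.coe_mul, ← hu, ← D.map_mul, hM, hχ, hx1]
    exact key (χ u)
  by_contra hno
  obtain ⟨K, hK, hK2, -⟩ := TwoTransfer.exists_index_two S M hidx (D.P x) (D.mem x)
    (fun k g hk _ => by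
      rw [← Nat.sub_add_cancel hk, pow_succ', pow_mul, ← hx, pow_orderOf_eq_one, one_pow, mul_one,
        inv_mul_cancel]
      exact one_mem _)
    (fun g hg hgM => by
      obtain ⟨v, hv, e⟩ := hgM
      have hc : IsConj (D.P x) (D.P v) := isConj_iff.2 ⟨g⁻¹, by rw [e, inv_inv]⟩
      exact hno ⟨v, hv, (orderOf_eq_of_isConj hc).symm.trans hx, hc⟩)
  rcases hK.eq_bot_or_eq_top with h | h <;> rw [h] at hK2
  · rw [Subgroup.index_bot] at hK2; omega
  · simp at hK2

end Setup

end Cfsg.Agent.G2Fusion
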